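import Groth.Agent.An92.Immersion
import Mathlib.AlgebraicGeometry.Morphisms.FiniteType
import Mathlib.AlgebraicGeometry.AffineSpace
import Mathlib.RingTheory.FiniteType
import Mathlib.Topology.Compactness.LocallyCompact
import Mathlib.Analysis.Complex.Basic

/-!
Complex points of affine schemes of finite type; local compactness; fibre products.
-/

set_option autoImplicit false

noncomputable section

open AlgebraicGeometry CategoryTheory CategoryTheory.Limits TopologicalSpace Topology

namespace Groth.Agent.An92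

open An An.Pts

variable {X Y : Scheme.{0}} [X.Over SC] [Y.Over SC]

theorem evTop_eval₂Hom {ι : Type} (x : Pts X) (s : ι → Γ(X, ⊤)) (P : MvPolynomial ι ℂ) :
    x.evTop (MvPolynomial.eval₂Hom (strHom X) s P) = MvPolynomial.eval (fun i => x.evTop (s i)) P := by
  have h : (evHom x ⊤ (Opens.mem_top _)).comp (MvPolynomial.eval₂Hom (strHom X) s)
      = MvPolynomial.eval (fun i => x.evTop (s i)) := by
    refine MvPolynomial.ringHom_ext (fun c => ?_) (fun i => ?_)
    · simp only [RingHom.comp_apply, MvPolynomial.eval₂Hom_C, MvPolynomial.eval_C]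
      exact evTop_strHom x c
    · simp only [RingHom.comp_apply, MvPolynomial.eval₂Hom_X', MvPolynomial.eval_X]
      rfl
  exact RingHom.congr_fun h P

/-- The set of common zeros of the relations. -/
theorem range_evTop_of_generators [IsAffine X] {ι : Type} (s : ι → Γ(X, ⊤))
    (hs : Function.Surjective (MvPolynomial.eval₂Hom (strHom X) s)) :
    Set.range (fun (x : Pts X) (i : ι) => x.evTop (s i)) =
      {z | ∀ P, MvPolynomial.eval₂Hom (strHom X) s P = 0 → MvPolynomial.eval z P = 0} := by
  refine subset_antisymm ?_ fun z hz => ?_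
  · rintro _ ⟨x, rfl⟩ P hP
    rw [← evTop_eval₂Hom, hP]
    exact map_zero (evHom x ⊤ (Opens.mem_top _))
  · let ψ := (MvPolynomial.eval₂Hom (strHom X) s)
    let φ : Γ(X, ⊤) →+* ℂ := ψ.liftOfSurjective hs ⟨MvPolynomial.eval z, fun P hP => hz P hP⟩
    have hφ : ∀ P, φ (ψ P) = MvPolynomial.eval z P := fun P =>
      RingHom.liftOfRightInverse_comp_apply ψ _ _ _ P
    have hφs : φ.comp (strHom X) = RingHom.id ℂ := by
      ext c
      have := hφ (MvPolynomial.C c)
      rw [MvPolynomial.eval_C, MvPolynomial.eval₂Hom_C] at this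
      exact this
    refine ⟨ofHom φ hφs, funext fun i => ?_⟩
    show (ofHom φ hφs).evTop (s i) = z i
    rw [evTop_ofHom]
    have := hφ (MvPolynomial.X i)
    rw [MvPolynomial.eval_X, MvPolynomial.eval₂Hom_X'] at this
    exact this

theorem isClosedEmbedding_evTop_of_generators [IsAffine X] {ι : Type} (s : ι → Γ(X, ⊤))
    (hs : Function.Surjective (MvPolynomial.eval₂Hom (strHom X) s)) :
    IsClosedEmbedding fun (x : Pts X) (i : ι) => x.evTop (s i) := by
  refine ⟨isEmbedding_evTop_of_generators s hs, ?_⟩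
  rw [range_evTop_of_generators s hs]
  simp only [Set.ofPred_forall]
  exact isClosed_iInter fun P => isClosed_iInter fun _ =>
    isClosed_eq (MvPolynomial.continuous_eval P) continuous_const

theorem finiteType_strHom [IsAffine X] [LocallyOfFiniteType (X ↘ SC)] : (strHom X).FiniteType := by
  have h : (X ↘ SC).appTop.hom.FiniteType :=
    (HasRingHomProperty.iff_of_isAffine (P := @LocallyOfFiniteType)).1 inferInstance
  exact h.comp (RingHom.FiniteType.of_surjective _
    (Scheme.ΓSpecIso (CommRingCat.of ℂ)).symm.commRingCatIsoToRingEquiv.surjective)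

theorem exists_generators [IsAffine X] [LocallyOfFiniteType (X ↘ SC)] :
    ∃ (n : ℕ) (s : Fin n → Γ(X, ⊤)), Function.Surjective (MvPolynomial.eval₂Hom (strHom X) s) := by
  letI := (strHom X).toAlgebra
  have : Algebra.FiniteType ℂ Γ(X, ⊤) := finiteType_strHom
  obtain ⟨n, f, hf⟩ := Algebra.FiniteType.iff_quotient_mvPolynomial''.1 this
  refine ⟨n, fun i => f (MvPolynomial.X i), fun a => ?_⟩
  obtain ⟨P, rfl⟩ := hf a
  refine ⟨P, ?_⟩
  conv_rhs => rw [MvPolynomial.aeval_unique f]
  rfl

theorem isEmpty_iff_pts [LocallyOfFiniteType (X ↘ SC)] : Nonempty X ↔ Nonempty (Pts X) :=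
  ⟨fun ⟨p⟩ => (exists_pt_mem (S := Set.univ) isClosed_univ.isLocallyClosed ⟨p, trivial⟩).nonempty,
    fun ⟨x⟩ => ⟨x.pt⟩⟩

theorem locallyCompactSpace [LocallyOfFiniteType (X ↘ SC)] : LocallyCompactSpace (Pts X) := by
  refine ⟨fun x S hS => ?_⟩
  obtain ⟨U, hU, hxU, -⟩ := exists_isAffineOpen_mem_and_subset (U := ⊤) (Opens.mem_top x.pt)
  have : IsAffine (U : Scheme.{0}) := hU
  obtain ⟨n, s, hs⟩ := exists_generators (X := (U : Scheme.{0}))
  have := (isClosedEmbedding_evTop_of_generators s hs).locallyCompactSpace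
  have he := isOpenEmbedding_map U.ι
  obtain ⟨y, rfl⟩ : x ∈ Set.range (Pts.map U.ι) := by rw [range_map_opensι]; exact hxU
  obtain ⟨K, hK, hKS, hKc⟩ := local_compact_nhds (he.continuous.continuousAt.preimage_mem_nhds hS)
  exact ⟨Pts.map U.ι '' K, he.isOpenMap.image_mem_nhds hK, Set.image_subset_iff.2 hKS,
    hKc.image he.continuous⟩

theorem affineSpace_generators (n : Type) :
    Function.Surjective (MvPolynomial.eval₂Hom (strHom 𝔸(n; SC)) (AffineSpace.coord SC)) := by
  have : IsIso ((AffineSpace.SpecIso n (CommRingCat.of ℂ)).hom.appTop) :=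
    inferInstanceAs (IsIso ((AffineSpace.SpecIso n (CommRingCat.of ℂ)).hom.app ⊤))
  have h : Function.Bijective ((AffineSpace.SpecIso n (CommRingCat.of ℂ)).hom.appTop) :=
    ConcreteCategory.bijective_of_isIso _
  rw [AffineSpace.SpecIso_hom_appTop] at h
  intro a
  obtain ⟨b, hb⟩ := h.2 a
  exact ⟨_, hb⟩

theorem isHomeomorph_evTop_affineSpace (n : Type) :
    IsHomeomorph fun (x : Pts (𝔸(n; SC))) (i : n) => x.evTop (AffineSpace.coord SC i) := by
  refine isHomeomorph_iff_isEmbedding_surjective.2
    ⟨(isClosedEmbedding_evTop_of_generators _ (affineSpace_generators n)).isEmbedding, fun z => ?_⟩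
  let v : n → Γ(SC, ⊤) := fun i => (Scheme.ΓSpecIso (CommRingCat.of ℂ)).inv (z i)
  refine ⟨⟨AffineSpace.homOfVector (𝟙 SC) v, AffineSpace.homOfVector_over _ _⟩, funext fun i => ?_⟩
  show Pts.evTop _ _ = z i
  refine (evTop_eq _ _).trans ?_
  dsimp only
  erw [AffineSpace.homOfVector_appTop_coord]
  simp [v]

/-- The map to the fibre product of spaces of points. -/
theorem isHomeomorph_pullback {S : Scheme.{0}} [S.Over SC] (f : X ⟶ S) (g : Y ⟶ S) [f.IsOver SC]
    [g.IsOver SC] :
    IsHomeomorph (fun z : An.Pts (Limits.pullback f g) =>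
      (⟨(An.Pts.map (Limits.pullback.fst f g) z, An.Pts.map (Limits.pullback.snd f g) z),
        An.Pts.map_pullback_condition f g z⟩ :
        {q : An.Pts X × An.Pts Y // An.Pts.map f q.1 = An.Pts.map g q.2})) := by
  set e := fun z : An.Pts (Limits.pullback f g) =>
      (⟨(An.Pts.map (Limits.pullback.fst f g) z, An.Pts.map (Limits.pullback.snd f g) z),
        An.Pts.map_pullback_condition f g z⟩ :
        {q : An.Pts X × An.Pts Y // An.Pts.map f q.1 = An.Pts.map g q.2}) with he
  have hinj : Function.Injective e := fun z w h => by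
    simp only [he, Subtype.mk.injEq, Prod.mk.injEq] at h
    exact Subtype.ext (pullback.hom_ext (congrArg Subtype.val h.1) (congrArg Subtype.val h.2))
  have hsurj : Function.Surjective e := by
    rintro ⟨⟨x, y⟩, h⟩
    have h' : x.1 ≫ f = y.1 ≫ g := congrArg Subtype.val h
    refine ⟨⟨pullback.lift x.1 y.1 h', ?_⟩, ?_⟩
    · show pullback.lift x.1 y.1 h' ≫ pullback.fst f g ≫ X ↘ SC = 𝟙 SC
      rw [pullback.lift_fst_assoc]
      exact x.2
    · refine Subtype.ext (Prod.ext (Subtype.ext ?_) (Subtype.ext ?_))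
      · exact pullback.lift_fst _ _ _
      · exact pullback.lift_snd _ _ _
  have hcont : Continuous e := ((Pts.continuous_map _).prodMk (Pts.continuous_map _)).subtype_mk _
  refine isHomeomorph_iff_isEmbedding_surjective.2 ⟨⟨⟨?_⟩, hinj⟩, hsurj⟩
  refine le_antisymm (continuous_iff_le_induced.1 hcont) ?_
  refine le_generateFrom ?_
  rintro _ ⟨O, h, V, hV, rfl⟩
  let τ : TopologicalSpace (Pts (Limits.pullback f g)) := TopologicalSpace.induced e inferInstance
  show IsOpen[τ] _
  rw [isOpen_iff_forall_mem_open]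
  rintro z hz
  -- affine pieces around the point
  set p := z.pt with hp
  obtain ⟨W, hW, hsW, -⟩ := exists_isAffineOpen_mem_and_subset (U := ⊤)
    (Opens.mem_top (f (pullback.fst f g p)))
  obtain ⟨U, hU, hxU, hUW⟩ := exists_isAffineOpen_mem_and_subset (U := f ⁻¹ᵁ W)
    (x := pullback.fst f g p) hsW
  obtain ⟨U', hU', hyU', hU'W⟩ := exists_isAffineOpen_mem_and_subset (U := g ⁻¹ᵁ W)
    (x := pullback.snd f g p) (by
      show g (pullback.snd f g p) ∈ W
      rw [← Scheme.Hom.comp_apply, ← pullback.condition, Scheme.Hom.comp_apply]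
      exact hsW)
  let T : (Limits.pullback f g).Opens := pullback.fst f g ⁻¹ᵁ U ⊓ pullback.snd f g ⁻¹ᵁ U'
  have hzT : z.pt ∈ T := ⟨hxU, hyU'⟩
  have hsubset : Pts.pt ⁻¹' (T : Set _) ∩ basicSet O h V ⊆ basicSet O h V := Set.inter_subset_right
  refine ⟨Pts.pt ⁻¹' (T : Set (Limits.pullback f g : Scheme.{0})) ∩ basicSet O h V, hsubset, ?_, hzT, hz⟩
  -- continuity of the point maps for the induced topology
  have hfst : Continuous[τ, _] (Pts.map (pullback.fst f g)) :=
    (continuous_fst.comp continuous_subtype_val).comp (continuous_induced_dom (f := e))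
  have hsnd : Continuous[τ, _] (Pts.map (pullback.snd f g)) :=
    (continuous_snd.comp continuous_subtype_val).comp (continuous_induced_dom (f := e))
  -- sections on the affine piece are continuous
  let S₁ : Set (Γ(Limits.pullback f g, T)) :=
    Set.range ((pullback.fst f g).appLE U T inf_le_left) ∪
      Set.range ((pullback.snd f g).appLE U' T inf_le_right)
  have hgen : Subring.closure S₁ = ⊤ := by
    have hpo := (isIso_pushoutSection_iff (IsPullback.of_hasPullback f g).flip.flip (UT := U') (UX := U)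
      (fun a ha => hU'W ha) (fun a ha => hUW ha) (UY := T) rfl).1
      (isIso_pushoutSection_of_isAffineOpen (IsPullback.of_hasPullback f g).flip.flip
        (fun a ha => hU'W ha) (fun a ha => hUW ha) rfl hW hU' hU)
    exact CommRingCat.closure_range_union_range_eq_top_of_isPushout hpo
  have hTaff : IsAffineOpen T := by
    have : IsAffine _ := hU
    have : IsAffine _ := hU'
    have : IsAffine _ := hW
    exact .of_isIso (Scheme.Hom.isPullback_resLE (IsPullback.of_hasPullback f g) (US := W) (UT := U')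
      (UX := U) (fun a ha => hU'W ha) (fun a ha => hUW ha) rfl).isoPullback.hom
  -- continuity of each section on the piece
  let K : Set (Pts (Limits.pullback f g)) := Pts.pt ⁻¹' (T : Set (Limits.pullback f g : Scheme.{0}))
  have hKfst : K = Pts.map (pullback.fst f g) ⁻¹' (Pts.pt ⁻¹' (U : Set X)) ∩
      Pts.map (pullback.snd f g) ⁻¹' (Pts.pt ⁻¹' (U' : Set Y)) := by
    ext w
    simp only [K, T, Set.mem_preimage, Set.mem_inter_iff, Pts.pt_map]
    rfl
  have hKopen : IsOpen[τ] K := by
    rw [hKfst]
    exact IsOpen.inter ((Pts.isOpen_preimage_pt U).preimage hfst)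
      ((Pts.isOpen_preimage_pt U').preimage hsnd)
  have hsec : ∀ b : Γ(Limits.pullback f g, T),
      Continuous[TopologicalSpace.induced Subtype.val τ, _] fun w : K => Pts.ev w.1 T w.2 b := by
    intro b
    have hb : b ∈ Subring.closure S₁ := hgen.symm ▸ Subring.mem_top b
    let τK : TopologicalSpace K := TopologicalSpace.induced Subtype.val τ
    induction hb using Subring.closure_induction with
    | mem b hb =>
      have key : ∀ (Z : Scheme.{0}) [Z.Over SC] (π : (Limits.pullback f g : Scheme.{0}) ⟶ Z)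
          [π.IsOver SC] (UZ : Z.Opens) (hle : T ≤ π ⁻¹ᵁ UZ) (a : Γ(Z, UZ))
          (_ : Continuous[τ, _] (Pts.map π)),
          Continuous[τK, _] fun w : K => Pts.ev w.1 T w.2 (π.appLE UZ T hle a) := by
        intro Z _ π _ UZ hle a hπ
        have hmem : ∀ w : K, (Pts.map π w.1).pt ∈ UZ := fun w => by
          rw [Pts.pt_map]; exact hle w.2
        have hcont : Continuous fun v : {v : Pts Z // v.pt ∈ UZ} => v.1.ev UZ v.2 a := by
          refine continuous_def.2 fun V' hV' => ⟨_, Pts.isOpen_basicSet UZ a hV', ?_⟩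
          ext v
          exact ⟨fun ⟨_, hv⟩ => hv, fun hv => ⟨v.2, hv⟩⟩
        have : (fun w : K => Pts.ev w.1 T w.2 (π.appLE UZ T hle a)) =
            (fun v : {v : Pts Z // v.pt ∈ UZ} => v.1.ev UZ v.2 a) ∘
              fun w : K => ⟨Pts.map π w.1, hmem w⟩ := by
          funext w
          simp only [Function.comp_apply, Pts.ev_map]
          exact ev_res w.1 hle w.2 (π.app UZ a)
        rw [this]
        exact hcont.comp ((hπ.comp (continuous_induced_dom (f := Subtype.val))).subtype_mk _)
      rcases hb with ⟨a, rfl⟩ | ⟨a, rfl⟩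
      · exact key X (pullback.fst f g) U inf_le_left a hfst
      · exact key Y (pullback.snd f g) U' inf_le_right a hsnd
    | zero => simpa [← evHom_apply] using continuous_const
    | one => simpa [← evHom_apply] using continuous_const
    | add a b _ _ ha hb => simp only [← evHom_apply, map_add] at ha hb ⊢; exact ha.add hb
    | neg a _ ha => simp only [← evHom_apply, map_neg] at ha ⊢; exact ha.neg
    | mul a b _ _ ha hb => simp only [← evHom_apply, map_mul] at ha hb ⊢; exact ha.mul hb
  -- transport through the open embedding of the piece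
  have hι := isOpenEmbedding_map T.ι
  have hrange := range_map_opensι T
  choose l hl using fun w : K => (hrange.symm ▸ w.2 : w.1 ∈ Set.range (Pts.map T.ι))
  have : IsAffine (T : Scheme.{0}) := hTaff
  let τK : TopologicalSpace K := TopologicalSpace.induced Subtype.val τ
  have hlc : Continuous[τK, _] l := by
    refine (isInducing_evTop.continuous_iff).2 (continuous_pi fun a => ?_)
    have : IsIso (T.ι.app T) := T.ι.isIso_app T (by rw [Scheme.Opens.opensRange_ι])
    have hbij : Function.Bijective
        ((T.ι.app T) ≫ (T : Scheme.{0}).presheaf.map (homOfLE (show ⊤ ≤ T.ι ⁻¹ᵁ T by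
          rw [Scheme.Opens.ι_preimage_self])).op) := by
      have : IsIso ((T : Scheme.{0}).presheaf.map (homOfLE (show ⊤ ≤ T.ι ⁻¹ᵁ T by
          rw [Scheme.Opens.ι_preimage_self])).op) := by
        have : IsIso (homOfLE (show ⊤ ≤ T.ι ⁻¹ᵁ T by rw [Scheme.Opens.ι_preimage_self])) :=
          ⟨homOfLE le_top, Subsingleton.elim _ _, Subsingleton.elim _ _⟩
        infer_instance
      exact ConcreteCategory.bijective_of_isIso _
    obtain ⟨b, hb⟩ := hbij.2 a
    have : ((fun (x : Pts (T : Scheme.{0})) (f : Γ((T : Scheme.{0}), ⊤)) => x.evTop f) ∘ l) =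
        fun w f => (l w).evTop f := rfl
    show Continuous[τK, _] fun w => (l w).evTop a
    have e : (fun w => (l w).evTop a) = fun w : K => Pts.ev w.1 T w.2 b := by
      funext w
      rw [← hb]
      have h1 : w.1.ev T w.2 b = (Pts.map T.ι (l w)).ev T (by rw [hl]; exact w.2) b := by
        simp only [hl]
      rw [h1, Pts.ev_map]
      exact ev_res (l w) _ _ (T.ι.app T b)
    rw [e]
    exact hsec b
  obtain ⟨O', hO', hO'e⟩ : IsOpen[τK] (l ⁻¹' (Pts.map T.ι ⁻¹' basicSet O h V)) := by
    rw [Pts.preimage_basicSet]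
    exact (isOpen_basicSet _ _ hV).preimage hlc
  have : K ∩ basicSet O h V = K ∩ O' := by
    ext w
    simp only [Set.mem_inter_iff, and_congr_right_iff]
    intro hw
    have h1 : w ∈ O' ↔ (⟨w, hw⟩ : K) ∈ Subtype.val ⁻¹' O' := Iff.rfl
    rw [h1, hO'e, Set.mem_preimage, Set.mem_preimage, hl]
  show IsOpen[τ] (K ∩ basicSet O h V)
  rw [this]
  exact hKopen.inter hO'

end Groth.Agent.An92
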