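import Mathlib.RingTheory.NoetherNormalization
import Mathlib.RingTheory.Jacobson.Ring
import Mathlib.FieldTheory.IsAlgClosed.Basic
import Mathlib.FieldTheory.Minpoly.IsIntegrallyClosed
import Mathlib.RingTheory.Polynomial.UniqueFactorization
import Mathlib.RingTheory.Ideal.GoingUp
import Mathlib.RingTheory.AdjoinRoot
import Mathlib.RingTheory.Polynomial.RationalRoot
import Mathlib.Analysis.Complex.Polynomial.Basic
import Mathlib.Topology.Algebra.MvPolynomial
import Mathlib.Algebra.MvPolynomial.Funext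
import Mathlib.Topology.MetricSpace.Bounded
import Mathlib.Analysis.Complex.Basic
import Mathlib.Topology.MetricSpace.Sequences

/-!
For a finitely generated domain over `ℂ`, the points where a given nonzero element does not vanish
are dense for the complex topology.
-/

set_option autoImplicit false

noncomputable section

open Polynomial Topology Filter

namespace Groth.Agent.An92

/-- A bound on the roots of a monic polynomial. -/
theorem norm_le_of_isRoot (P : ℂ[X]) (hP : P.Monic) (z : ℂ) (hz : P.eval z = 0) :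
    ‖z‖ ≤ 1 + ∑ i ∈ Finset.range P.natDegree, ‖P.coeff i‖ := by
  set n := P.natDegree with hn
  have hS : 0 ≤ ∑ i ∈ Finset.range n, ‖P.coeff i‖ := Finset.sum_nonneg fun i _ => norm_nonneg _
  rcases le_or_gt ‖z‖ 1 with h | h
  · linarith
  have he : z ^ n = -∑ i ∈ Finset.range n, P.coeff i * z ^ i := by
    have := eval_eq_sum_range (p := P) z
    rw [hz, Finset.sum_range_succ, ← hn, hn, hP.coeff_natDegree, one_mul] at this
    linear_combination -this
  rcases Nat.eq_zero_or_pos n with h0 | h0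
  · simp [h0] at he
  have hbound : ‖z‖ ^ n ≤ (∑ i ∈ Finset.range n, ‖P.coeff i‖) * ‖z‖ ^ (n - 1) := by
    rw [← norm_pow, he, norm_neg, Finset.sum_mul]
    refine (norm_sum_le _ _).trans (Finset.sum_le_sum fun i hi => ?_)
    rw [norm_mul, norm_pow]
    refine mul_le_mul_of_nonneg_left (pow_le_pow_right₀ h.le ?_) (norm_nonneg _)
    have := Finset.mem_range.1 hi
    omega
  have : ‖z‖ ≤ ∑ i ∈ Finset.range n, ‖P.coeff i‖ := by
    refine le_of_mul_le_mul_right ?_ (pow_pos (zero_lt_one.trans h) (n - 1))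
    rwa [← pow_succ', Nat.sub_add_cancel h0]
  linarith

/-- A monic polynomial small at `a` has a root near `a`. -/
theorem exists_root_near (P : ℂ[X]) (hP : P.Monic) (hd : 0 < P.natDegree) (a : ℂ) :
    ∃ r : ℂ, P.eval r = 0 ∧ ‖a - r‖ ^ P.natDegree ≤ ‖P.eval a‖ := by
  have hs : P.Splits := IsAlgClosed.splits P
  have hcard : P.roots.card = P.natDegree := IsAlgClosed.card_roots_eq_natDegree
  have hne : P.roots.toFinset.Nonempty := by
    rw [Multiset.toFinset_nonempty]
    intro h
    rw [h, Multiset.card_zero] at hcard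
    omega
  obtain ⟨r, hr, hmin⟩ := Finset.exists_min_image _ (fun r => ‖a - r‖) hne
  rw [Multiset.mem_toFinset] at hr
  refine ⟨r, (mem_roots'.1 hr).2, ?_⟩
  conv_rhs => rw [← prod_multiset_X_sub_C_of_monic_of_roots_card_eq hP hcard]
  rw [eval_multiset_prod, Multiset.map_map]
  have : ∀ s : Multiset ℂ, (∀ x ∈ s, ‖a - r‖ ≤ ‖a - x‖) →
      ‖a - r‖ ^ s.card ≤ ‖(s.map (fun x => (X - C x).eval a)).prod‖ := by
    intro s
    induction s using Multiset.induction with
    | empty => simp
    | cons x s ih =>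
      intro hx
      rw [Multiset.card_cons, pow_succ', Multiset.map_cons, Multiset.prod_cons, norm_mul, eval_sub,
        eval_X, eval_C]
      exact mul_le_mul (hx x (Multiset.mem_cons_self _ _))
        (ih fun y hy => hx y (Multiset.mem_cons_of_mem hy)) (by positivity) (norm_nonneg _)
  rw [← hcard]
  exact this _ fun x hx => hmin x (Multiset.mem_toFinset.2 hx)

section

variable {A : Type} [CommRing A] [Algebra ℂ A]

theorem apply_eq_eval {σ : Type} (s : σ → A) (φ : A →ₐ[ℂ] ℂ) (P : MvPolynomial σ ℂ) :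
    φ (MvPolynomial.aeval s P) = MvPolynomial.eval (fun i => φ (s i)) P := by
  rw [← AlgHom.comp_apply, MvPolynomial.comp_aeval]
  rfl

variable [IsDomain A]

set_option maxHeartbeats 800000 in
theorem exists_algHom_near {σ : Type} [Finite σ] (s : σ → A)
    (hs : Function.Surjective (MvPolynomial.aeval s : MvPolynomial σ ℂ →ₐ[ℂ] A))
    {h : A} (hh : h ≠ 0) (φ₀ : A →ₐ[ℂ] ℂ) {O : Set (σ → ℂ)} (hO : O ∈ 𝓝 fun i => φ₀ (s i)) :
    ∃ φ : A →ₐ[ℂ] ℂ, (fun i => φ (s i)) ∈ O ∧ φ h ≠ 0 := by
  classical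
  have : Fintype σ := Fintype.ofFinite σ
  have hft : Algebra.FiniteType ℂ A := Algebra.FiniteType.of_surjective _ hs
  obtain ⟨d, g, hginj, hgfin⟩ := exists_finite_inj_algHom_of_fg ℂ A
  let R := MvPolynomial (Fin d) ℂ
  letI algRA : Algebra R A := g.toRingHom.toAlgebra
  have hgi : Algebra.IsIntegral R A := ⟨fun x => hgfin.to_isIntegral x⟩
  have hmap : ∀ x : R, algebraMap R A x = g x := fun _ => rfl
  have : FaithfulSMul R A := (faithfulSMul_iff_algebraMap_injective R A).2 hginj
  have : Module.IsTorsionFree R A := inferInstance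
  -- evaluation of coefficient polynomials
  have hcomp : ∀ (φ : A →ₐ[ℂ] ℂ) (x : R), φ (g x) = MvPolynomial.eval (fun j => φ (g (MvPolynomial.X j))) x := by
    intro φ x
    rw [← AlgHom.comp_apply, MvPolynomial.aeval_unique (φ.comp g)]
    rfl
  have hroot : ∀ (φ : A →ₐ[ℂ] ℂ) (b : A),
      ((minpoly R b).map (MvPolynomial.eval fun j => φ (g (MvPolynomial.X j)))).eval (φ b) = 0 := by
    intro φ b
    have hh' : (φ.toRingHom.comp (algebraMap R A)) = MvPolynomial.eval fun j => φ (g (MvPolynomial.X j)) :=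
      RingHom.ext fun x => hcomp φ x
    rw [← hh', eval_map]
    have h1 := (hom_eval₂ (minpoly R b) (algebraMap R A) φ.toRingHom b).symm
    have h2 := minpoly.aeval R b
    rw [aeval_def] at h2
    rw [h2, map_zero] at h1
    exact h1
  let e : (A →ₐ[ℂ] ℂ) → (σ → ℂ) := fun φ i => φ (s i)
  have einj : Function.Injective e := fun φ ψ hq => AlgHom.ext fun x => by
    obtain ⟨P, rfl⟩ := hs x
    rw [apply_eq_eval, apply_eq_eval]
    exact congrArg (fun z => MvPolynomial.eval z P) hq
  let base : (A →ₐ[ℂ] ℂ) → (Fin d → ℂ) := fun φ j => φ (g (MvPolynomial.X j))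
  set t₀ := base φ₀ with ht₀
  -- the fibre over `t₀` is finite
  have hfib : (e '' {φ | base φ = t₀}).Finite := by
    refine Set.Finite.subset (Set.Finite.pi (t := fun i =>
      {z : ℂ | ((minpoly R (s i)).map (MvPolynomial.eval t₀)).eval z = 0}) fun i => ?_) ?_
    · exact finite_setOfPred_isRoot
        ((minpoly.monic (Algebra.IsIntegral.isIntegral (R := R) (s i))).map _).ne_zero
    · rintro _ ⟨φ, hφ, rfl⟩ i -
      have := hroot φ (s i)
      show ((minpoly R (s i)).map (MvPolynomial.eval t₀)).eval (φ (s i)) = 0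
      rw [← show base φ = t₀ from hφ]
      exact this
  have hF : {φ : A →ₐ[ℂ] ℂ | base φ = t₀}.Finite :=
    Set.Finite.of_finite_image hfib einj.injOn
  -- a separating element
  obtain ⟨a, ha₀, ha⟩ : ∃ a : A, φ₀ a = 1 ∧ ∀ φ, base φ = t₀ → φ ≠ φ₀ → φ a = 0 := by
    have hsep : ∀ φ : A →ₐ[ℂ] ℂ, φ ≠ φ₀ → ∃ b, φ₀ b = 1 ∧ φ b = 0 := by
      intro φ hne
      obtain ⟨b, hb⟩ : ∃ b, φ b ≠ φ₀ b := by
        by_contra hc
        push Not at hc
        exact hne (AlgHom.ext hc)
      refine ⟨(φ₀ b - φ b)⁻¹ • (b - algebraMap ℂ A (φ b)), ?_, ?_⟩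
      · rw [map_smul, map_sub, AlgHom.commutes, smul_eq_mul]
        exact inv_mul_cancel₀ (sub_ne_zero.2 (Ne.symm hb))
      · simp
    choose! b hb₀ hb using hsep
    refine ⟨∏ φ ∈ hF.toFinset.erase φ₀, b φ, ?_, ?_⟩
    · rw [map_prod]
      exact Finset.prod_eq_one fun φ hφ => hb₀ φ (Finset.ne_of_mem_erase hφ)
    · intro φ hφ hne
      rw [map_prod]
      exact Finset.prod_eq_zero (Finset.mem_erase.2 ⟨hne, hF.mem_toFinset.2 hφ⟩) (hb φ hne)
  -- the minimal polynomial of the separating element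
  have hai : IsIntegral R a := Algebra.IsIntegral.isIntegral a
  set P := minpoly R a with hP
  have hPm : P.Monic := minpoly.monic hai
  have hPd : 0 < P.natDegree := minpoly.natDegree_pos hai
  have hker : ∀ q : R[X], aeval a q = 0 → P ∣ q := fun q hq =>
    minpoly.isIntegrallyClosed_dvd hai hq
  -- lifting a root
  have hlift : ∀ (t : Fin d → ℂ) (r : ℂ), (P.map (MvPolynomial.eval t)).eval r = 0 →
      ∃ φ : A →ₐ[ℂ] ℂ, base φ = t ∧ φ a = r := by
    intro t r hr
    let ψ : AdjoinRoot P →+* A := AdjoinRoot.lift (algebraMap R A) a (by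
      rw [← aeval_def]; exact minpoly.aeval R a)
    have hψinj : Function.Injective ψ := by
      rw [injective_iff_map_eq_zero]
      intro q hq
      obtain ⟨q, rfl⟩ := AdjoinRoot.mk_surjective q
      rw [AdjoinRoot.lift_mk, ← aeval_def] at hq
      exact AdjoinRoot.mk_eq_zero.2 (hker q hq)
    let χ : AdjoinRoot P →+* ℂ := AdjoinRoot.lift (MvPolynomial.eval t) r (by
      rw [← eval_map]; exact hr)
    have hχs : Function.Surjective χ := fun z =>
      ⟨AdjoinRoot.of P (MvPolynomial.C z), by rw [AdjoinRoot.lift_of, MvPolynomial.eval_C]⟩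
    letI : Algebra (AdjoinRoot P) A := ψ.toAlgebra
    have : IsScalarTower R (AdjoinRoot P) A := IsScalarTower.of_algebraMap_eq fun x => by
      show _ = ψ (algebraMap R (AdjoinRoot P) x)
      rw [AdjoinRoot.algebraMap_eq, AdjoinRoot.lift_of]
    have : Algebra.IsIntegral (AdjoinRoot P) A := Algebra.IsIntegral.tower_top R
    have hmax : (RingHom.ker χ).IsMaximal := RingHom.ker_isMaximal_of_surjective χ hχs
    obtain ⟨M, hM, hMc⟩ := Ideal.exists_ideal_over_maximal_of_isIntegral (S := A) (RingHom.ker χ)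
      (by
        rw [show RingHom.ker (algebraMap (AdjoinRoot P) A) = ⊥ from
          (RingHom.injective_iff_ker_eq_bot _).1 hψinj]
        exact bot_le)
    let := Ideal.Quotient.field M
    have : Algebra.FiniteType ℂ (A ⧸ M) :=
      Algebra.FiniteType.of_surjective (Ideal.Quotient.mkₐ ℂ M) (Ideal.Quotient.mkₐ_surjective ℂ M)
    have : Module.Finite ℂ (A ⧸ M) := finite_of_finite_type_of_isJacobsonRing ℂ _
    let eq : ℂ ≃ₐ[ℂ] A ⧸ M := AlgEquiv.ofBijective (Algebra.ofId ℂ (A ⧸ M))
      IsAlgClosed.algebraMap_bijective_of_isIntegral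
    let φ : A →ₐ[ℂ] ℂ := eq.symm.toAlgHom.comp (Ideal.Quotient.mkₐ ℂ M)
    have hφ : ∀ x, φ (ψ x) = χ x := by
      intro x
      have h1 : x - AdjoinRoot.of P (MvPolynomial.C (χ x)) ∈ RingHom.ker χ := by
        rw [RingHom.mem_ker, map_sub, AdjoinRoot.lift_of, MvPolynomial.eval_C, sub_self]
      have h2 : φ (ψ (x - AdjoinRoot.of P (MvPolynomial.C (χ x)))) = 0 := by
        have h3 : ψ (x - AdjoinRoot.of P (MvPolynomial.C (χ x))) ∈ M := by
          rw [← hMc] at h1; exact h1
        show eq.symm (Ideal.Quotient.mk M _) = 0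
        rw [Ideal.Quotient.eq_zero_iff_mem.2 h3, map_zero]
      rw [map_sub, map_sub, AdjoinRoot.lift_of, sub_eq_zero] at h2
      rw [h2, hmap]
      rw [← AlgHom.comp_apply, ← MvPolynomial.algebraMap_eq, AlgHom.commutes]
      rfl
    refine ⟨φ, funext fun j => ?_, ?_⟩
    · have := hφ (AdjoinRoot.of P (MvPolynomial.X j))
      rw [AdjoinRoot.lift_of, AdjoinRoot.lift_of, MvPolynomial.eval_X] at this
      exact this
    · have := hφ (AdjoinRoot.root P)
      rw [AdjoinRoot.lift_root, AdjoinRoot.lift_root] at this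
      exact this
  -- an element of the base forcing `h` nonzero
  have hhi : IsIntegral R h := Algebra.IsIntegral.isIntegral h
  set c := (minpoly R h).coeff 0 with hc
  have hc0 : c ≠ 0 := by
    intro h0
    obtain ⟨q, hq⟩ := X_dvd_iff.2 h0
    have hqm : q.Monic := by
      have := minpoly.monic hhi
      rw [hq] at this
      exact monic_X.of_mul_monic_left this
    have hq0 : aeval h q = 0 := by
      have := minpoly.aeval R h
      rw [hq, map_mul, aeval_X] at this
      exact (mul_eq_zero.1 this).resolve_left hh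
    have h1 := Polynomial.natDegree_le_of_dvd (minpoly.isIntegrallyClosed_dvd hhi hq0) hqm.ne_zero
    rw [hq, monic_X.natDegree_mul hqm, natDegree_X] at h1
    omega
  have hch : ∀ φ : A →ₐ[ℂ] ℂ, φ h = 0 → MvPolynomial.eval (base φ) c = 0 := by
    intro φ hφ
    have := hroot φ h
    rw [hφ, ← coeff_zero_eq_eval_zero, coeff_map] at this
    exact this
  by_contra hcon
  push Not at hcon
  have hseq : ∀ k : ℕ, ∃ t : Fin d → ℂ, dist t t₀ ≤ 1 / (k + 1) ∧ MvPolynomial.eval t c ≠ 0 := by
    intro k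
    by_contra hk
    push Not at hk
    apply hc0
    refine MvPolynomial.funext_set (fun j => Metric.closedBall (t₀ j) (1 / (k + 1)))
      (fun j => ?_) fun x hx => ?_
    · exact infinite_of_mem_nhds (t₀ j) (Metric.closedBall_mem_nhds _ (by positivity))
    · rw [map_zero]
      refine hk x ?_
      rw [dist_pi_le_iff (by positivity)]
      exact fun j => Metric.mem_closedBall.1 (hx j (Set.mem_univ j))
  choose t htd htc using hseq
  have htlim : Tendsto t atTop (𝓝 t₀) :=
    tendsto_iff_dist_tendsto_zero.2 (squeeze_zero (fun _ => dist_nonneg) htd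
      tendsto_one_div_add_atTop_nhds_zero_nat)
  have hroots : ∀ k, ∃ φ : A →ₐ[ℂ] ℂ, base φ = t k ∧
      ‖1 - φ a‖ ^ P.natDegree ≤ ‖(P.map (MvPolynomial.eval (t k))).eval 1‖ := by
    intro k
    have hd' : (P.map (MvPolynomial.eval (t k))).natDegree = P.natDegree := hPm.natDegree_map _
    obtain ⟨r, hr, hle⟩ := exists_root_near _ (hPm.map _) (hd'.symm ▸ hPd) 1
    obtain ⟨φ, hφt, hφa⟩ := hlift (t k) r hr
    exact ⟨φ, hφt, by rw [hφa, ← hd']; exact hle⟩
  choose φ hφt hφa using hroots
  have hpv : ∀ (q : R[X]) (x : Fin d → ℂ), (q.map (MvPolynomial.eval x)).eval 1 =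
      MvPolynomial.eval x (q.eval 1) := fun q x => by
    rw [eval_map, ← eval₂_hom, map_one]
  have hQ0 : Tendsto (fun k => ‖(P.map (MvPolynomial.eval (t k))).eval 1‖) atTop (𝓝 0) := by
    have h1 : (P.map (MvPolynomial.eval t₀)).eval 1 = 0 := by
      rw [← ha₀]; exact hroot φ₀ a
    simp only [hpv] at h1 ⊢
    have := ((MvPolynomial.continuous_eval (P.eval 1)).tendsto t₀).comp htlim
    rw [h1] at this
    simpa using this.norm
  have ha1 : Tendsto (fun k => φ k a) atTop (𝓝 1) := by
    rw [tendsto_iff_norm_sub_tendsto_zero]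
    refine tendsto_order.2 ⟨fun x hx => Eventually.of_forall fun k => hx.trans_le (norm_nonneg _),
      fun x hx => ?_⟩
    filter_upwards [(tendsto_order.1 hQ0).2 _ (pow_pos hx P.natDegree)] with k hk
    rw [norm_sub_rev]
    exact lt_of_pow_lt_pow_left₀ _ hx.le ((hφa k).trans_lt hk)
  -- a convergent subsequence
  have hbdd : Bornology.IsBounded (Set.range fun k => e (φ k)) := by
    rw [← Bornology.forall_isBounded_image_eval_iff]
    intro i
    set q := minpoly R (s i) with hq
    have hcont : Continuous fun x : Fin d → ℂ =>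
        1 + ∑ j ∈ Finset.range q.natDegree, ‖MvPolynomial.eval x (q.coeff j)‖ :=
      continuous_const.add (continuous_finsetSum _ fun j _ => (MvPolynomial.continuous_eval _).norm)
    obtain ⟨B, hB⟩ := ((hcont.tendsto t₀).comp htlim).bddAbove_range
    refine (Metric.isBounded_closedBall (x := (0 : ℂ)) (r := B)).subset ?_
    rintro _ ⟨_, ⟨k, rfl⟩, rfl⟩
    rw [mem_closedBall_zero_iff]
    refine le_trans ?_ (hB ⟨k, rfl⟩)
    have h1 := hroot (φ k) (s i)
    have hq' : q.Monic := minpoly.monic (Algebra.IsIntegral.isIntegral _)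
    have h2 := norm_le_of_isRoot _ (hq'.map _) _ h1
    rw [hq'.natDegree_map] at h2
    simp only [coeff_map] at h2
    simpa [Function.comp_def, e, ← hφt k, base] using h2
  obtain ⟨z, -, n, hn, hz⟩ := tendsto_subseq_of_bounded hbdd (fun k => ⟨k, rfl⟩)
  have hrel : ∀ Q : MvPolynomial σ ℂ, Tendsto (fun k => φ (n k) (MvPolynomial.aeval s Q)) atTop
      (𝓝 (MvPolynomial.eval z Q)) := fun Q => by
    simp only [apply_eq_eval]
    exact ((MvPolynomial.continuous_eval Q).tendsto z).comp hz
  obtain ⟨φ', hφ'⟩ : ∃ φ' : A →ₐ[ℂ] ℂ, ∀ Q : MvPolynomial σ ℂ,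
      φ' (MvPolynomial.aeval s Q) = MvPolynomial.eval z Q := by
    let π := (MvPolynomial.aeval s : MvPolynomial σ ℂ →ₐ[ℂ] A)
    have hk : RingHom.ker π.toRingHom ≤ RingHom.ker (MvPolynomial.aeval z : _ →ₐ[ℂ] ℂ).toRingHom := by
      intro Q hQ
      have h1 := hrel Q
      have hQ' : MvPolynomial.aeval s Q = 0 := hQ
      simp only [hQ', map_zero] at h1
      exact (tendsto_nhds_unique h1 tendsto_const_nhds : MvPolynomial.eval z Q = 0)
    refine ⟨(Ideal.Quotient.liftₐ _ (MvPolynomial.aeval z) hk).comp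
      (Ideal.quotientKerAlgEquivOfSurjective hs).symm.toAlgHom, fun Q => ?_⟩
    have : (Ideal.quotientKerAlgEquivOfSurjective hs).symm (π Q) = Ideal.Quotient.mk _ Q := by
      rw [AlgEquiv.symm_apply_eq]; rfl
    simp only [AlgHom.comp_apply, AlgEquiv.coe_toAlgHom]
    rw [this]
    rfl
  have hlimA : ∀ x : A, Tendsto (fun k => φ (n k) x) atTop (𝓝 (φ' x)) := fun x => by
    obtain ⟨Q, rfl⟩ := hs x
    rw [hφ']
    exact hrel Q
  have hbase : base φ' = t₀ := funext fun j => by
    have h1 : Tendsto (fun k => t (n k) j) atTop (𝓝 (φ' (g (MvPolynomial.X j)))) := by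
      simp only [← hφt, base]
      exact hlimA _
    exact tendsto_nhds_unique h1
      (((continuous_apply j).tendsto t₀).comp (htlim.comp hn.tendsto_atTop))
  have hφa' : φ' a = 1 := tendsto_nhds_unique (hlimA a) (ha1.comp hn.tendsto_atTop)
  have heq : φ' = φ₀ := by
    by_contra hne
    rw [ha φ' hbase hne] at hφa'
    exact zero_ne_one hφa'
  have hmem : ∀ᶠ k in atTop, e (φ (n k)) ∈ O := by
    refine (tendsto_pi_nhds.2 fun i => ?_ : Tendsto (fun k => e (φ (n k))) atTop (𝓝 (e φ₀))) hO
    rw [← heq]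
    exact hlimA (s i)
  obtain ⟨k, hk⟩ := hmem.exists
  exact htc (n k) (hφt (n k) ▸ hch _ (hcon _ hk))

end

end Groth.Agent.An92
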