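import Groth.Prelude.Def_AnPts
import Mathlib.AlgebraicGeometry.Morphisms.ClosedImmersion
import Mathlib.AlgebraicGeometry.AffineScheme
import Mathlib.Algebra.MvPolynomial.CommRing
import Mathlib.Algebra.MvPolynomial.Eval
import Mathlib.Topology.Algebra.Ring.Basic
import Mathlib.Topology.Algebra.MvPolynomial

/-!
Basic calculus of complex points: evaluation, points of affine schemes, the topology in terms of
global sections, and the criterion for a map of points to be inducing.
-/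

set_option autoImplicit false

noncomputable section

open AlgebraicGeometry CategoryTheory TopologicalSpace Topology

namespace Groth.Agent.An92

open An An.Pts

variable {X Y : Scheme.{0}} [X.Over SC] [Y.Over SC]

/-- Evaluation as a ring homomorphism. -/
def evHom (x : Pts X) (U : X.Opens) (h : x.pt ∈ U) : Γ(X, U) →+* ℂ :=
  ((Scheme.ΓSpecIso (CommRingCat.of ℂ)).hom.hom).comp (x.1.appLE U ⊤ (top_le_preimage x h)).hom

theorem evHom_apply (x : Pts X) (U : X.Opens) (h : x.pt ∈ U) (f : Γ(X, U)) :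
    evHom x U h f = x.ev U h f := rfl

theorem ev_res (x : Pts X) {U U' : X.Opens} (hle : U ≤ U') (h : x.pt ∈ U) (f : Γ(X, U')) :
    x.ev U h (X.presheaf.map (homOfLE hle).op f) = x.ev U' (hle h) f := by
  simp only [Pts.ev]
  congr 1
  change (X.presheaf.map (homOfLE hle).op ≫ x.1.appLE U ⊤ _) f = _
  rw [Scheme.Hom.map_appLE]

theorem evTop_eq (x : Pts X) (f : Γ(X, ⊤)) :
    x.evTop f = (Scheme.ΓSpecIso (CommRingCat.of ℂ)).hom (x.1.appTop f) := by
  simp only [Pts.evTop, Pts.ev, Scheme.Hom.appTop, Scheme.Hom.app_eq_appLE]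
  rfl

theorem evTop_strHom (x : Pts X) (c : ℂ) : x.evTop (strHom X c) = c := by
  rw [evTop_eq]
  have h : (X ↘ SC).appTop ≫ x.1.appTop = 𝟙 _ := by
    rw [← Scheme.Hom.comp_appTop, x.2, Scheme.Hom.id_appTop]
  change (Scheme.ΓSpecIso (CommRingCat.of ℂ)).hom
    (x.1.appTop ((X ↘ SC).appTop ((Scheme.ΓSpecIso (CommRingCat.of ℂ)).inv c))) = c
  rw [← CategoryTheory.comp_apply (X ↘ SC).appTop, h]
  simp

theorem mem_basicOpen_iff (x : Pts X) (U : X.Opens) (h : x.pt ∈ U) (f : Γ(X, U)) :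
    x.pt ∈ X.basicOpen f ↔ x.ev U h f ≠ 0 := by
  have h1 : x.pt ∈ X.basicOpen f ↔ cpt ∈ SC.basicOpen (x.1.appLE U ⊤ (top_le_preimage x h) f) := by
    rw [Scheme.basicOpen_appLE]
    exact ⟨fun hp => ⟨trivial, hp⟩, fun hp => hp.2⟩
  rw [h1]
  generalize hs : x.1.appLE U ⊤ (top_le_preimage x h) f = s
  have h2 : x.ev U h f = (Scheme.ΓSpecIso (CommRingCat.of ℂ)).hom s := by rw [← hs]; rfl
  rw [h2]
  constructor
  · intro hp h0
    have : s = 0 := (Scheme.ΓSpecIso (CommRingCat.of ℂ)).commRingCatIsoToRingEquiv.injective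
      (h0.trans (map_zero _).symm)
    rw [this, Scheme.basicOpen_zero] at hp
    exact hp
  · intro hne
    have hu : IsUnit s := by
      have := ((Scheme.ΓSpecIso (CommRingCat.of ℂ)).commRingCatIsoToRingEquiv.symm.toRingHom).isUnit_map
        (isUnit_iff_ne_zero.2 hne)
      convert this
      exact ((Scheme.ΓSpecIso (CommRingCat.of ℂ)).commRingCatIsoToRingEquiv.symm_apply_apply s).symm
    rw [Scheme.basicOpen_of_isUnit _ hu]
    trivial

/-- On an affine scheme a point is determined by the evaluation of global sections. -/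
theorem ext_of_evTop [IsAffine X] {x y : Pts X} (h : ∀ f : Γ(X, ⊤), x.evTop f = y.evTop f) : x = y := by
  refine Subtype.ext (ext_of_isAffine ?_)
  ext f
  have := h f
  rw [evTop_eq, evTop_eq] at this
  exact (Scheme.ΓSpecIso (CommRingCat.of ℂ)).commRingCatIsoToRingEquiv.injective this

/-- The point of an affine scheme attached to a ring map `Γ(X) → ℂ` over `ℂ`. -/
def ofHom [IsAffine X] (φ : Γ(X, ⊤) →+* ℂ) (hφ : φ.comp (strHom X) = RingHom.id ℂ) : Pts X :=
  ⟨Spec.map (CommRingCat.ofHom φ) ≫ X.isoSpec.inv, by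
    rw [Category.assoc, ← Scheme.isoSpec_inv_naturality]
    have h1 : CommRingCat.ofHom φ = CommRingCat.ofHom φ := rfl
    have h2 : (Scheme.ΓSpecIso (CommRingCat.of ℂ)).inv ≫ (X ↘ SC).appTop ≫ CommRingCat.ofHom φ = 𝟙 _ := by
      ext c
      exact RingHom.congr_fun hφ c
    have h3 : Scheme.isoSpec SC = (Scheme.Spec.mapIso (Scheme.ΓSpecIso (CommRingCat.of ℂ)).op) := by
      ext : 1
      simp [Scheme.isoSpec, SpecMap_ΓSpecIso_hom]
    rw [h3]
    simp only [Functor.mapIso_inv, Iso.op_inv, Scheme.Spec_map, Quiver.Hom.unop_op]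
    rw [← Spec.map_comp_assoc, ← Spec.map_comp, h2, Spec.map_id]⟩

theorem evTop_ofHom [IsAffine X] (φ : Γ(X, ⊤) →+* ℂ) (hφ : φ.comp (strHom X) = RingHom.id ℂ)
    (f : Γ(X, ⊤)) : (ofHom φ hφ).evTop f = φ f := by
  rw [evTop_eq]
  have h1 : (Spec.map (CommRingCat.ofHom φ) ≫ X.isoSpec.inv).appTop ≫
      (Scheme.ΓSpecIso (CommRingCat.of ℂ)).hom = CommRingCat.ofHom φ := by
    rw [Scheme.Hom.comp_appTop, Category.assoc, Scheme.ΓSpecIso_naturality]
    have : X.isoSpec.inv.appTop ≫ (Scheme.ΓSpecIso Γ(X, ⊤)).hom = 𝟙 _ := by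
      have h2 : X.isoSpec.inv.appTop ≫ X.isoSpec.hom.appTop = 𝟙 _ := by
        rw [← Scheme.Hom.comp_appTop, Iso.hom_inv_id, Scheme.Hom.id_appTop]
      rwa [show X.isoSpec.hom.appTop = (Scheme.ΓSpecIso Γ(X, ⊤)).hom from Scheme.toSpecΓ_appTop X] at h2
    exact (Category.assoc _ _ _).symm.trans ((congrArg (· ≫ CommRingCat.ofHom φ) this).trans (Category.id_comp _))
  exact congrArg (fun g => g.hom f) h1

/-- Evaluation of all global sections is continuous. -/
theorem continuous_evTop (f : Γ(X, ⊤)) : Continuous fun x : Pts X => x.evTop f := by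
  refine continuous_def.2 fun V hV => ?_
  have : (fun x : Pts X => x.evTop f) ⁻¹' V = basicSet ⊤ f V := by
    ext x
    exact ⟨fun h => ⟨Opens.mem_top _, h⟩, fun ⟨_, h⟩ => h⟩
  rw [this]
  exact isOpen_basicSet _ _ hV

/-- On an affine scheme the topology on points is the initial one for global sections. -/
theorem isInducing_evTop [IsAffine X] :
    IsInducing fun (x : Pts X) (f : Γ(X, ⊤)) => x.evTop f := by
  set e := fun (x : Pts X) (f : Γ(X, ⊤)) => x.evTop f with he
  refine ⟨le_antisymm (continuous_iff_le_induced.1 (continuous_pi continuous_evTop)) ?_⟩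
  refine le_generateFrom ?_
  rintro _ ⟨U, f, V, hV, rfl⟩
  let τ : TopologicalSpace (Pts X) := TopologicalSpace.induced e inferInstance
  have hc : ∀ g, Continuous[τ, _] fun x : Pts X => x.evTop g := fun g =>
    (continuous_apply g).comp (continuous_induced_dom (f := e))
  show IsOpen[τ] _
  rw [isOpen_iff_forall_mem_open]
  rintro x ⟨hxU, hxV⟩
  obtain ⟨g, hgU, hxg⟩ := (isAffineOpen_top X).exists_basicOpen_le (V := U) ⟨x.pt, hxU⟩ (Opens.mem_top _)
  have := (isAffineOpen_top X).isLocalization_basicOpen g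
  obtain ⟨a, ⟨_, m, rfl⟩, ham⟩ :=
    IsLocalization.exists_mk'_eq (Submonoid.powers g) (X.presheaf.map (homOfLE hgU).op f)
  have hres : ∀ y : Pts X, ∀ hy : y.pt ∈ X.basicOpen g,
      y.ev U (hgU hy) f * y.evTop g ^ m = y.evTop a := by
    intro y hy
    have h1 := IsLocalization.mk'_spec Γ(X, X.basicOpen g) a
      (⟨g ^ m, m, rfl⟩ : Submonoid.powers g)
    rw [ham] at h1
    have h2 := congrArg (evHom y (X.basicOpen g) hy) h1
    have hr : ∀ b : Γ(X, ⊤), evHom y (X.basicOpen g) hy (algebraMap Γ(X, ⊤) Γ(X, X.basicOpen g) b)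
        = y.evTop b := fun b => ev_res y le_top hy b
    rw [map_mul, hr, hr, evHom_apply, ev_res y hgU hy f] at h2
    have hp : y.evTop (g ^ m) = y.evTop g ^ m := map_pow (evHom y ⊤ (Opens.mem_top _)) g m
    rw [← hp]
    exact h2
  refine ⟨{y | y.evTop g ≠ 0 ∧ y.evTop a / y.evTop g ^ m ∈ V}, ?_, ?_, ?_⟩
  · rintro y ⟨hg0, hV'⟩
    have hy : y.pt ∈ X.basicOpen g := (mem_basicOpen_iff y ⊤ (Opens.mem_top _) g).2 hg0
    refine ⟨hgU hy, ?_⟩
    rwa [← hres y hy, mul_div_assoc, div_self (pow_ne_zero _ hg0), mul_one] at hV'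
  · have hS : IsOpen[τ] {y : Pts X | y.evTop g ≠ 0} := isOpen_ne.preimage (hc g)
    have hq : ContinuousOn (fun y : Pts X => y.evTop a / y.evTop g ^ m) {y | y.evTop g ≠ 0} :=
      (hc a).continuousOn.div ((hc g).continuousOn.pow m) fun y hy => pow_ne_zero _ hy
    exact hq.isOpen_inter_preimage hS hV
  · have hg0 : x.evTop g ≠ 0 := (mem_basicOpen_iff x ⊤ (Opens.mem_top _) g).1 hxg
    refine ⟨hg0, ?_⟩
    rwa [← hres x hxg, mul_div_assoc, div_self (pow_ne_zero _ hg0), mul_one]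

/-- Global sections generating the `ℂ`-algebra `Γ(X)` determine the topology. -/
theorem isEmbedding_evTop_of_generators [IsAffine X] {ι : Type} (s : ι → Γ(X, ⊤))
    (hs : Function.Surjective (MvPolynomial.eval₂Hom (strHom X) s)) :
    IsEmbedding fun (x : Pts X) (i : ι) => x.evTop (s i) := by
  set e := fun (x : Pts X) (i : ι) => x.evTop (s i) with he
  have hev : ∀ (x : Pts X) (P : MvPolynomial ι ℂ),
      x.evTop (MvPolynomial.eval₂Hom (strHom X) s P) = MvPolynomial.eval (e x) P := by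
    intro x P
    have h : (evHom x ⊤ (Opens.mem_top _)).comp (MvPolynomial.eval₂Hom (strHom X) s)
        = MvPolynomial.eval (e x) := by
      refine MvPolynomial.ringHom_ext (fun c => ?_) (fun i => ?_)
      · simp only [RingHom.comp_apply, MvPolynomial.eval₂Hom_C, MvPolynomial.eval_C]
        exact evTop_strHom x c
      · simp only [RingHom.comp_apply, MvPolynomial.eval₂Hom_X', MvPolynomial.eval_X]
        rfl
    exact RingHom.congr_fun h P
  have hG : ∃ G : (ι → ℂ) → (Γ(X, ⊤) → ℂ), Continuous G ∧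
      (fun (x : Pts X) (f : Γ(X, ⊤)) => x.evTop f) = G ∘ e := by
    choose P hP using hs
    refine ⟨fun z f => MvPolynomial.eval z (P f), continuous_pi fun f => MvPolynomial.continuous_eval _, ?_⟩
    funext x f
    simp only [Function.comp_apply, ← hev, hP]
  obtain ⟨G, hGc, hGe⟩ := hG
  refine ⟨IsInducing.of_comp (continuous_pi fun i => continuous_evTop (s i)) hGc
    (hGe ▸ isInducing_evTop), fun x y hxy => ext_of_evTop fun f => ?_⟩
  have h1 := congrFun (congrFun hGe x) f
  have h2 := congrFun (congrFun hGe y) f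
  simp only [Function.comp_apply] at h1 h2
  rw [h1, h2, show e x = e y from hxy]

/-- Criterion for the map on points to be inducing. -/
theorem isInducing_map (g : X ⟶ Y) [g.IsOver SC]
    (H : ∀ (x : Pts X) (W : X.Opens), x.pt ∈ W → ∀ f : Γ(X, W),
      ∃ (U : Y.Opens) (hle : g ⁻¹ᵁ U ≤ W) (a : Γ(Y, U)),
        (Pts.map g x).pt ∈ U ∧ g.app U a = X.presheaf.map (homOfLE hle).op f) :
    IsInducing (Pts.map g) := by
  refine ⟨le_antisymm (continuous_iff_le_induced.1 (Pts.continuous_map g)) ?_⟩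
  refine le_generateFrom ?_
  rintro _ ⟨W, f, V, hV, rfl⟩
  let τ : TopologicalSpace (Pts X) := TopologicalSpace.induced (Pts.map g) inferInstance
  show IsOpen[τ] _
  rw [isOpen_iff_forall_mem_open]
  rintro x ⟨hxW, hxV⟩
  obtain ⟨U, hle, a, hxU, ha⟩ := H x W hxW f
  have key : ∀ (y : Pts X) (hy : (Pts.map g y).pt ∈ U),
      ∃ hyW : y.pt ∈ W, (Pts.map g y).ev U hy a = y.ev W hyW f := by
    intro y hy
    have hy' : y.pt ∈ g ⁻¹ᵁ U := by rw [Pts.pt_map] at hy; exact hy
    refine ⟨hle hy', ?_⟩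
    rw [Pts.ev_map, ha]
    exact ev_res y hle hy' f
  refine ⟨Pts.map g ⁻¹' basicSet U a V, ?_, isOpen_induced (isOpen_basicSet _ _ hV), ?_⟩
  · rintro y ⟨hy, hyV⟩
    obtain ⟨hyW, e⟩ := key y hy
    exact ⟨hyW, e ▸ hyV⟩
  · obtain ⟨hxW', e⟩ := key x hxU
    exact ⟨hxU, e.symm ▸ hxV⟩

end Groth.Agent.An92
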