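import Groth.Agent.An92.Affine
import Groth.Agent.An92.AlgDense
import Groth.Agent.ConstrTop58.Basic
import Mathlib.AlgebraicGeometry.Noetherian
import Mathlib.AlgebraicGeometry.Morphisms.FinitePresentation

/-!
The closure of the complex points of a locally constructible set.
-/

set_option autoImplicit false

noncomputable section

open AlgebraicGeometry CategoryTheory TopologicalSpace Topology

namespace Groth.Agent.An92

open An An.Pts

variable {X : Scheme.{0}} [X.Over SC] [LocallyOfFiniteType (X ↘ SC)]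

variable (X) in
theorem isLocallyNoetherian : IsLocallyNoetherian X :=
  LocallyOfFiniteType.isLocallyNoetherian (X ↘ SC)

theorem closure_pt_affine [IsAffine X] {E : Set X} (hE : IsConstructible E) {x : Pts X}
    (hx : x.pt ∈ closure E) : x ∈ closure (Pts.pt ⁻¹' E) := by
  have := isLocallyNoetherian X
  have : IsNoetherian X := {}
  obtain ⟨Y, hY, hYi, hxY, Ω, hΩ, hne, hΩE⟩ := ConstrTop58.exists_irreducible_of_mem_closure hE hx
  obtain ⟨η, hη⟩ : ∃ η, IsGenericPoint η Y := ⟨_, hYi.isGenericPoint_genericPoint hY⟩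
  have hηΩ : η ∈ Ω := (hη.mem_open_set_iff hΩ).mpr (by rwa [Set.inter_comm] at hne)
  obtain ⟨h, hhΩ, hηh⟩ := (isAffineOpen_top X).exists_basicOpen_le (V := ⟨Ω, hΩ⟩) ⟨η, hηΩ⟩
    (Opens.mem_top _)
  let p : Ideal Γ(X, ⊤) := RingHom.ker (X.evaluation ⊤ η trivial).hom
  have hp : p.IsPrime := RingHom.ker_isPrime _
  have hpmem : ∀ f : Γ(X, ⊤), f ∈ p ↔ η ∉ X.basicOpen f := fun f => by
    rw [RingHom.mem_ker]
    exact Scheme.evaluation_eq_zero_iff_notMem_basicOpen (U := ⊤) X η trivial f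
  obtain ⟨n, s, hs⟩ := exists_generators (X := X)
  letI algC : Algebra ℂ Γ(X, ⊤) := (strHom X).toAlgebra
  have haeval : ∀ (P : MvPolynomial (Fin n) ℂ), MvPolynomial.aeval (fun i => Ideal.Quotient.mk p (s i)) P
      = Ideal.Quotient.mk p (MvPolynomial.eval₂Hom (strHom X) s P) := fun P => by
    have : (MvPolynomial.aeval fun i => Ideal.Quotient.mk p (s i)) =
        (Ideal.Quotient.mkₐ ℂ p).comp (MvPolynomial.aeval s) := by
      rw [MvPolynomial.comp_aeval]; rfl
    rw [this]; rfl
  have hs' : Function.Surjective (MvPolynomial.aeval (fun i => Ideal.Quotient.mk p (s i)) :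
      MvPolynomial (Fin n) ℂ →ₐ[ℂ] Γ(X, ⊤) ⧸ p) := fun q => by
    obtain ⟨f, rfl⟩ := Ideal.Quotient.mk_surjective q
    obtain ⟨P, rfl⟩ := hs f
    exact ⟨P, haeval P⟩
  have hspec : η ⤳ x.pt := hη.specializes hxY
  have hkill : ∀ f ∈ p, evHom x ⊤ (Opens.mem_top _) f = 0 := fun f hf => by
    by_contra hne'
    exact (hpmem f).1 hf (hspec.mem_open (X.basicOpen f).2
      ((mem_basicOpen_iff x ⊤ (Opens.mem_top _) f).2 hne'))
  let φ₀ : Γ(X, ⊤) ⧸ p →ₐ[ℂ] ℂ :=
    { Ideal.Quotient.lift p (evHom x ⊤ (Opens.mem_top _)) hkill with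
      commutes' := fun c => evTop_strHom x c }
  have hh : Ideal.Quotient.mk p h ≠ 0 := fun h0 =>
    (hpmem h).1 (Ideal.Quotient.eq_zero_iff_mem.1 h0) hηh
  rw [mem_closure_iff_nhds]
  intro N hN
  rw [(isEmbedding_evTop_of_generators s hs).nhds_eq_comap, Filter.mem_comap] at hN
  obtain ⟨O, hO, hON⟩ := hN
  obtain ⟨φ, hφO, hφh⟩ := exists_algHom_near _ hs' hh φ₀ (O := O) hO
  let ψ : Γ(X, ⊤) →+* ℂ := φ.toRingHom.comp (Ideal.Quotient.mk p)
  have hψ : ψ.comp (strHom X) = RingHom.id ℂ := RingHom.ext fun c => φ.commutes c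
  refine ⟨ofHom ψ hψ, hON ?_, hΩE ⟨?_, ?_⟩⟩
  · show (fun i => (ofHom ψ hψ).evTop (s i)) ∈ O
    simp only [evTop_ofHom]
    exact hφO
  · refine hhΩ ((mem_basicOpen_iff _ ⊤ (Opens.mem_top _) h).2 ?_)
    change (ofHom ψ hψ).evTop h ≠ 0
    rw [evTop_ofHom]
    exact hφh
  · by_contra hYy
    obtain ⟨g, hgY, hyg⟩ := (isAffineOpen_top X).exists_basicOpen_le (V := ⟨Yᶜ, hY.isOpen_compl⟩)
      ⟨(ofHom ψ hψ).pt, hYy⟩ (Opens.mem_top _)
    have hgp : g ∈ p := (hpmem g).2 fun hηg => hgY hηg hη.mem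
    apply (mem_basicOpen_iff _ ⊤ (Opens.mem_top _) g).1 hyg
    change (ofHom ψ hψ).evTop g = 0
    rw [evTop_ofHom]
    show φ (Ideal.Quotient.mk p g) = 0
    rw [Ideal.Quotient.eq_zero_iff_mem.2 hgp, map_zero]

theorem preimage_closure_of_isLocallyConstructible {T : Set X} (hT : IsLocallyConstructible T) :
    (Pts.pt ⁻¹' closure T : Set (Pts X)) = closure (Pts.pt ⁻¹' T) := by
  refine subset_antisymm (fun x hx => ?_) (Pts.continuous_pt.closure_preimage_subset T)
  obtain ⟨U, hU, hxU, -⟩ := exists_isAffineOpen_mem_and_subset (U := ⊤) (Opens.mem_top x.pt)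
  have : IsAffine (U : Scheme.{0}) := hU
  have : QuasiSeparatedSpace (U : Scheme.{0}) := inferInstance
  have hT' : IsConstructible (U.ι ⁻¹' T) :=
    (hT.preimage_of_isOpenEmbedding U.ι.isOpenEmbedding).isConstructible
  obtain ⟨y, rfl⟩ : x ∈ Set.range (Pts.map U.ι) := by rw [range_map_opensι]; exact hxU
  have hy : y.pt ∈ closure (U.ι ⁻¹' T) := by
    rw [← U.ι.isOpenEmbedding.isOpenMap.preimage_closure_eq_closure_preimage U.ι.continuous]
    have : (Pts.map U.ι y).pt ∈ closure T := hx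
    rw [Pts.pt_map] at this
    exact this
  have := closure_pt_affine hT' hy
  refine closure_mono ?_ (mem_closure_image (Pts.continuous_map U.ι).continuousAt this)
  rintro _ ⟨z, hz, rfl⟩
  show (Pts.map U.ι z).pt ∈ T
  rw [Pts.pt_map]
  exact hz

theorem dense_iff_of_isLocallyConstructible {T : Set X} (hT : IsLocallyConstructible T) :
    Dense T ↔ Dense (Pts.pt ⁻¹' T : Set (Pts X)) := by
  have := jacobsonSpace X
  rw [dense_iff_closure_eq, dense_iff_closure_eq, ← preimage_closure_of_isLocallyConstructible hT]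
  refine ⟨fun h => by rw [h, Set.preimage_univ], fun h => ?_⟩
  by_contra hne
  obtain ⟨x, hx⟩ := exists_pt_mem (S := (closure T)ᶜ) isClosed_closure.isOpen_compl.isLocallyClosed
    (Set.nonempty_compl.2 hne)
  exact hx (h ▸ Set.mem_univ x : x ∈ Pts.pt ⁻¹' closure T)

/-- A locally constructible set containing no complex point is empty. -/
theorem exists_pt_of_isLocallyConstructible {T : Set X} (hT : IsLocallyConstructible T)
    (hne : T.Nonempty) : ∃ x : Pts X, x.pt ∈ T := by
  by_contra h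
  push Not at h
  have hempty : (Pts.pt ⁻¹' T : Set (Pts X)) = ∅ := Set.eq_empty_of_forall_notMem h
  have h2 := preimage_closure_of_isLocallyConstructible hT
  rw [hempty, closure_empty] at h2
  obtain ⟨x, hx⟩ := exists_pt_mem (S := closure T) isClosed_closure.isLocallyClosed hne.closure
  exact (Set.eq_empty_iff_forall_notMem.1 h2 x) hx

theorem isClosed_iff_of_isLocallyConstructible {T : Set X} (hT : IsLocallyConstructible T) :
    IsClosed T ↔ IsClosed (Pts.pt ⁻¹' T : Set (Pts X)) := by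
  refine ⟨fun h => h.preimage Pts.continuous_pt, fun h => ?_⟩
  by_contra hncl
  obtain ⟨p, hpc, hpT⟩ : (closure T \ T).Nonempty := by
    rw [Set.sdiff_nonempty]
    exact fun hsub => hncl (isClosed_of_closure_subset hsub)
  have := isLocallyNoetherian X
  obtain ⟨U, hU, hpU, -⟩ := exists_isAffineOpen_mem_and_subset (U := ⊤) (Opens.mem_top p)
  have : IsAffine (U : Scheme.{0}) := hU
  have : IsNoetherian (U : Scheme.{0}) := {}
  have hc : IsConstructible (U.ι ⁻¹' (closure T \ T)) := by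
    rw [Set.preimage_sdiff]
    exact (ConstrTop58.isConstructible_of_isClosed
      (isClosed_closure.preimage U.ι.continuous)).sdiff
      (hT.preimage_of_isOpenEmbedding U.ι.isOpenEmbedding).isConstructible
  obtain ⟨y, hy⟩ := exists_pt_of_isLocallyConstructible (X := (U : Scheme.{0}))
    hc.isLocallyConstructible ⟨⟨p, hpU⟩, hpc, hpT⟩
  have hy' : (Pts.map U.ι y).pt ∈ closure T \ T := by rw [Pts.pt_map]; exact hy
  have : Pts.map U.ι y ∈ closure (Pts.pt ⁻¹' T) :=
    preimage_closure_of_isLocallyConstructible hT ▸ hy'.1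
  rw [h.closure_eq] at this
  exact hy'.2 this

omit [X.Over SC] [LocallyOfFiniteType (X ↘ SC)] in
theorem isLocallyConstructible_compl {T : Set X} (hT : IsLocallyConstructible T) :
    IsLocallyConstructible Tᶜ := fun x => by
  obtain ⟨V, hxV, hV, hc⟩ := hT x
  exact ⟨V, hxV, hV, by rw [Set.preimage_compl]; exact hc.compl⟩

theorem isOpen_iff_of_isLocallyConstructible {T : Set X} (hT : IsLocallyConstructible T) :
    IsOpen T ↔ IsOpen (Pts.pt ⁻¹' T : Set (Pts X)) := by
  rw [← isClosed_compl_iff, ← isClosed_compl_iff, ← Set.preimage_compl,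
    isClosed_iff_of_isLocallyConstructible (isLocallyConstructible_compl hT)]

end Groth.Agent.An92
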