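import Groth.Agent.An92.Ultra
import Groth.Agent.An92.Affine
import Groth.Agent.An92.AlgDense
import Mathlib.RingTheory.Localization.Away.Basic

/-!
A quasi-compact morphism which is proper on complex points is universally closed.
-/

set_option autoImplicit false

noncomputable section

open AlgebraicGeometry CategoryTheory TopologicalSpace Topology Filter

namespace Groth.Agent.An92

open An An.Pts

variable {X Y : Scheme.{0}} [X.Over SC] [Y.Over SC]

/-- The structure homomorphism into the sections on an open. -/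
def strHomU (U : X.Opens) : ℂ →+* Γ(X, U) :=
  (X.presheaf.map (homOfLE (le_top : U ≤ ⊤)).op).hom.comp (strHom X)

theorem ev_strHomU (x : Pts X) (U : X.Opens) (h : x.pt ∈ U) (c : ℂ) :
    x.ev U h (strHomU U c) = c :=
  (ev_res x le_top h (strHom X c)).trans (evTop_strHom x c)

theorem appTop_strHom' (f : X ⟶ Y) [f.IsOver SC] (c : ℂ) : f.appTop (strHom Y c) = strHom X c := by
  have h : (f ≫ Y ↘ SC).appTop = (X ↘ SC).appTop := by rw [comp_over]
  rw [Scheme.Hom.comp_appTop] at h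
  exact congrArg (fun k => k.hom ((Scheme.ΓSpecIso (CommRingCat.of ℂ)).inv c)) h

theorem appLE_strHomU (g : X ⟶ Y) [g.IsOver SC] (W : Y.Opens) (U : X.Opens) (h : U ≤ g ⁻¹ᵁ W) (c : ℂ) :
    g.appLE W U h (strHomU W c) = strHomU U c := by
  show g.appLE W U h (Y.presheaf.map (homOfLE (le_top : W ≤ ⊤)).op (strHom Y c)) = _
  rw [← CommRingCat.comp_apply, Scheme.Hom.map_appLE]
  show X.presheaf.map _ (g.app ⊤ (strHom Y c)) = _
  rw [show g.app ⊤ (strHom Y c) = strHom X c from appTop_strHom' g c]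
  rfl

theorem exists_generators_opens [LocallyOfFiniteType (X ↘ SC)] {U : X.Opens} (hU : IsAffineOpen U) :
    ∃ (n : ℕ) (s : Fin n → Γ(X, U)), Function.Surjective (MvPolynomial.eval₂Hom (strHomU U) s) := by
  have : IsAffine (U : Scheme.{0}) := hU
  obtain ⟨n, s, hs⟩ := exists_generators (X := (U : Scheme.{0}))
  refine ⟨n, fun i => U.topIso.hom (s i), fun a => ?_⟩
  obtain ⟨P, hP⟩ := hs (U.topIso.inv a)
  refine ⟨P, ?_⟩
  have h1 : (U.topIso.hom.hom.comp (MvPolynomial.eval₂Hom (strHom (U : Scheme.{0})) s)) =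
      MvPolynomial.eval₂Hom (strHomU U) (fun i => U.topIso.hom (s i)) := by
    refine MvPolynomial.ringHom_ext (fun c => ?_) (fun i => ?_)
    · simp only [RingHom.comp_apply, MvPolynomial.eval₂Hom_C]
      rw [← appTop_strHom' U.ι c]
      show U.topIso.hom (U.ι.app ⊤ (strHom X c)) = _
      show (U.ι.app ⊤ ≫ U.topIso.hom) (strHom X c) = X.presheaf.map _ (strHom X c)
      congr 2
      simp [Scheme.Opens.topIso, Scheme.Opens.ι_app]
      exact (X.presheaf.map_comp _ _).symm.trans (congrArg X.presheaf.map (Subsingleton.elim _ _))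
    · simp only [RingHom.comp_apply, MvPolynomial.eval₂Hom_X']
  rw [← h1, RingHom.comp_apply, hP]
  show U.topIso.hom (U.topIso.inv a) = a
  rw [← CommRingCat.comp_apply, Iso.inv_hom_id]
  rfl

theorem exists_algHom {A : Type} [CommRing A] [Algebra ℂ A] [Algebra.FiniteType ℂ A] (I : Ideal A)
    (hI : I ≠ ⊤) : ∃ φ : A →ₐ[ℂ] ℂ, ∀ a ∈ I, φ a = 0 := by
  obtain ⟨M, hM, hIM⟩ := Ideal.exists_le_maximal I hI
  let := Ideal.Quotient.field M
  have : Algebra.FiniteType ℂ (A ⧸ M) :=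
    Algebra.FiniteType.of_surjective (Ideal.Quotient.mkₐ ℂ M) (Ideal.Quotient.mkₐ_surjective ℂ M)
  have : Module.Finite ℂ (A ⧸ M) := finite_of_finite_type_of_isJacobsonRing ℂ _
  let eq : ℂ ≃ₐ[ℂ] A ⧸ M := AlgEquiv.ofBijective (Algebra.ofId ℂ (A ⧸ M))
    IsAlgClosed.algebraMap_bijective_of_isIntegral
  refine ⟨eq.symm.toAlgHom.comp (Ideal.Quotient.mkₐ ℂ M), fun a ha => ?_⟩
  show eq.symm (Ideal.Quotient.mk M a) = 0
  rw [Ideal.Quotient.eq_zero_iff_mem.2 (hIM ha), map_zero]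

omit [X.Over SC] in
/-- A point over a prime lies in the closure of the point it specializes from. -/
theorem mem_closure_fromSpec {U : X.Opens} (hU : IsAffineOpen U) {K : Type} [Field K]
    (ψ : Γ(X, U) →+* K) (z : Spec (CommRingCat.of K)) (P : Spec Γ(X, U))
    (h : RingHom.ker ψ ≤ P.asIdeal) :
    hU.fromSpec P ∈ closure ({hU.fromSpec (Spec.map (CommRingCat.ofHom ψ) z)} : Set X) := by
  refine specializes_iff_mem_closure.1 (Specializes.map ?_ hU.fromSpec.continuous)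
  refine (PrimeSpectrum.le_iff_specializes (Spec.map (CommRingCat.ofHom ψ) z) P).1 ?_
  intro b (hb : ψ b ∈ z.asIdeal)
  refine h ?_
  have : z.asIdeal = ⊥ := (eq_bot_or_eq_top z.asIdeal).resolve_right z.isPrime.ne_top
  rw [this, Ideal.mem_bot] at hb
  exact hb

/-- The affineness of a bundled affine open. -/
theorem afx {X : Scheme.{0}} (U : X.affineOpens) : IsAffineOpen U.1 := U.2

set_option maxHeartbeats 1000000 in
theorem existence_of_isProperMap [LocallyOfFiniteType (X ↘ SC)] [LocallyOfFiniteType (Y ↘ SC)]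
    (g : X ⟶ Y) [g.IsOver SC] [QuasiCompact g] (hproper : IsProperMap (Pts.map g)) :
    ValuativeCriterion.Existence g := by
  classical
  rintro ⟨R, K, i₁, i₂, ⟨w⟩⟩
  obtain ⟨W, hW, hcW, -⟩ := exists_isAffineOpen_mem_and_subset (U := ⊤)
    (Opens.mem_top (i₂ (IsLocalRing.closedPoint R)))
  have hi₂W : ∀ q, i₂ q ∈ W := fun q =>
    ((IsLocalRing.specializes_closedPoint q).map i₂.continuous).mem_open W.2 hcW
  obtain ⟨ρ, hρ⟩ : ∃ ρ : Γ(Y, W) →+* R, Spec.map (CommRingCat.ofHom ρ) ≫ hW.fromSpec = i₂ := by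
    let l' := IsOpenImmersion.lift hW.fromSpec i₂ (by
      rintro _ ⟨q, rfl⟩; rw [hW.range_fromSpec]; exact hi₂W q)
    obtain ⟨χ, hχ⟩ := Spec.map_surjective l'
    exact ⟨χ.hom, by rw [CommRingCat.ofHom_hom, hχ]; exact IsOpenImmersion.lift_fac _ _ _⟩
  obtain ⟨s, hs, hcov⟩ := (isCompact_iff_finite_and_eq_biUnion_affineOpens (U := g ⁻¹ᵁ W)).1
    (g.isCompact_preimage hW.isCompact)
  have hcov' : ((g ⁻¹ᵁ W : X.Opens) : Set X) = ⋃ U ∈ s, (U.1 : Set X) := by rw [hcov]; simp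
  have hsW : ∀ U ∈ s, U.1 ≤ g ⁻¹ᵁ W := fun U hU z hz =>
    hcov'.ge (Set.mem_biUnion hU hz)
  let z : Spec (CommRingCat.of K) := IsLocalRing.closedPoint K
  set q := i₁ z with hq
  have hqW : q ∈ g ⁻¹ᵁ W := by
    show g (i₁ z) ∈ W
    rw [← Scheme.Hom.comp_apply, w, Scheme.Hom.comp_apply]
    exact hi₂W _
  obtain ⟨U₁, hU₁s, hqU₁⟩ := Set.mem_iUnion₂.1 (hcov'.le hqW)
  -- the point on an affine piece
  have hψex : ∀ U : X.affineOpens, q ∈ U.1 → ∃ ψ : Γ(X, U.1) →+* K,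
      Spec.map (CommRingCat.ofHom ψ) ≫ (afx U).fromSpec = i₁ := by
    intro U hU
    let l' := IsOpenImmersion.lift (afx U).fromSpec i₁ (by
      rintro _ ⟨p, rfl⟩
      rw [(afx U).range_fromSpec, show p = z from Subsingleton.elim (α := PrimeSpectrum K) _ _]
      exact hU)
    obtain ⟨χ, hχ⟩ := Spec.map_surjective l'
    exact ⟨χ.hom, by rw [CommRingCat.ofHom_hom, hχ]; exact IsOpenImmersion.lift_fac _ _ _⟩
  have hcomp : ∀ (U : X.affineOpens) (hle : U.1 ≤ g ⁻¹ᵁ W) (ψ : Γ(X, U.1) →+* K),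
      Spec.map (CommRingCat.ofHom ψ) ≫ (afx U).fromSpec = i₁ →
        ψ.comp (g.appLE W U.1 hle).hom = (algebraMap R K).comp ρ := by
    intro U hle ψ hψ
    have h1 : Spec.map (g.appLE W U.1 hle ≫ CommRingCat.ofHom ψ) ≫ hW.fromSpec =
        Spec.map (CommRingCat.ofHom ρ ≫ CommRingCat.ofHom (algebraMap R K)) ≫ hW.fromSpec := by
      rw [Spec.map_comp, Category.assoc, IsAffineOpen.SpecMap_appLE_fromSpec g hW (afx U) hle,
        ← Category.assoc, hψ, w, Spec.map_comp, Category.assoc, hρ]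
    rw [cancel_mono] at h1
    exact congrArg CommRingCat.Hom.hom (Spec.map_injective h1)
  by_cases hlift : ∃ U ∈ s, ∃ ψ : Γ(X, U.1) →+* K,
      Spec.map (CommRingCat.ofHom ψ) ≫ (afx U).fromSpec = i₁ ∧ ∀ b, ψ b ∈ (algebraMap R K).range
  · obtain ⟨U, hUs, ψ, hψ, hψR⟩ := hlift
    let e := RingEquiv.ofBijective ((algebraMap R K).rangeRestrict)
      ⟨fun a b h => IsFractionRing.injective R K (congrArg Subtype.val h),
        (algebraMap R K).rangeRestrict_surjective⟩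
    let χ : Γ(X, U.1) →+* R := e.symm.toRingHom.comp (ψ.codRestrict _ hψR)
    have hχ : ∀ b, algebraMap R K (χ b) = ψ b := fun b =>
      congrArg Subtype.val (e.apply_symm_apply (ψ.codRestrict _ hψR b))
    refine ⟨⟨⟨Spec.map (CommRingCat.ofHom χ) ≫ (afx U).fromSpec, ?_, ?_⟩⟩⟩
    · show _ = i₁
      refine Eq.trans ?_ hψ
      rw [← Category.assoc, ← Spec.map_comp]
      congr 2
      ext b
      exact hχ b
    · show _ = i₂
      refine Eq.trans ?_ hρ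
      rw [Category.assoc, ← IsAffineOpen.SpecMap_appLE_fromSpec g hW (afx U) (hsW U hUs),
        ← Category.assoc, ← Spec.map_comp]
      congr 2
      ext b
      apply IsFractionRing.injective R K
      exact (hχ _).trans (RingHom.congr_fun (hcomp U (hsW U hUs) ψ hψ) b)
  exfalso
  push Not at hlift
  obtain ⟨ψ₁, hψ₁⟩ := hψex U₁ hqU₁
  -- bad coordinates on every piece through the point
  have hbad : ∀ U : {U : X.affineOpens // U ∈ s ∧ q ∈ U.1}, ∃ (b : Γ(X, U.1.1)) (h : Γ(X, U₁.1))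
      (m : ℕ) (c : Γ(X, U₁.1)), ∃ (hle : X.basicOpen h ≤ U.1.1),
      ψ₁ h ≠ 0 ∧ ψ₁ c / ψ₁ h ^ m ∉ (algebraMap R K).range ∧
      X.presheaf.map (homOfLE hle).op b * X.presheaf.map (homOfLE (X.basicOpen_le h)).op h ^ m =
        X.presheaf.map (homOfLE (X.basicOpen_le h)).op c := by
    rintro ⟨U, hUs, hqU⟩
    obtain ⟨ψ, hψ⟩ := hψex U hqU
    obtain ⟨b, hb⟩ := hlift U hUs ψ hψ
    have hp : (afx U₁).fromSpec (Spec.map (CommRingCat.ofHom ψ₁) z) = q := by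
      rw [hq, ← hψ₁, Scheme.Hom.comp_apply]
    obtain ⟨h, hle, hqh⟩ := (afx U₁).exists_basicOpen_le (V := U.1) ⟨q, hqU⟩ hqU₁
    have := (afx U₁).isLocalization_basicOpen h
    obtain ⟨c, ⟨_, m, rfl⟩, hcm⟩ :=
      IsLocalization.exists_mk'_eq (Submonoid.powers h) (X.presheaf.map (homOfLE hle).op b)
    have heq : X.presheaf.map (homOfLE hle).op b * X.presheaf.map (homOfLE (X.basicOpen_le h)).op h ^ m =
        X.presheaf.map (homOfLE (X.basicOpen_le h)).op c := by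
      have h1 := IsLocalization.mk'_spec Γ(X, X.basicOpen h) c (⟨h ^ m, m, rfl⟩ : Submonoid.powers h)
      rw [hcm] at h1
      rw [← map_pow]
      exact h1
    have hh0 : ψ₁ h ≠ 0 := by
      intro h0
      have hq' : Spec.map (CommRingCat.ofHom ψ₁) z ∈ (afx U₁).fromSpec ⁻¹ᵁ X.basicOpen h := by
        show (afx U₁).fromSpec _ ∈ X.basicOpen h
        rw [hp]; exact hqh
      rw [(afx U₁).fromSpec_preimage_basicOpen] at hq'
      refine hq' ?_
      show ψ₁ h ∈ z.asIdeal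
      rw [h0]; exact z.asIdeal.zero_mem
    refine ⟨b, h, m, c, hle, hh0, ?_, heq⟩
    obtain ⟨ψ', hψ'⟩ := hψex ⟨X.basicOpen h, (afx U₁).basicOpen h⟩ hqh
    have hres : ∀ (V : X.affineOpens) (φ : Γ(X, V.1) →+* K) (hV : X.basicOpen h ≤ V.1),
        Spec.map (CommRingCat.ofHom φ) ≫ (afx V).fromSpec = i₁ →
          φ = ψ'.comp (X.presheaf.map (homOfLE hV).op).hom := by
      intro V φ hV hφ
      have h1 : Spec.map (CommRingCat.ofHom φ) ≫ (afx V).fromSpec =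
          Spec.map (X.presheaf.map (homOfLE hV).op ≫ CommRingCat.ofHom ψ') ≫ (afx V).fromSpec := by
        rw [Spec.map_comp, Category.assoc, (afx V).map_fromSpec ((afx U₁).basicOpen h) (homOfLE hV).op]
        exact hφ.trans hψ'.symm
      rw [cancel_mono] at h1
      exact congrArg CommRingCat.Hom.hom (Spec.map_injective h1)
    have e1 := hres U₁ ψ₁ (X.basicOpen_le h) hψ₁
    have e2 := hres U ψ hle hψ
    have h2 := congrArg ψ' heq
    rw [map_mul, map_pow] at h2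
    rw [e2] at hb
    rw [e1] at hh0 ⊢
    simp only [RingHom.comp_apply] at hb hh0 ⊢
    rw [← h2, mul_div_assoc, div_self (pow_ne_zero _ hh0), mul_one]
    exact hb
  choose bb hh mm cc hle hh0 habad heq using hbad
  have hfin : Finite {U : X.affineOpens // U ∈ s ∧ q ∈ U.1} :=
    haveI := hs.to_subtype
    Finite.of_injective (fun U : {U : X.affineOpens // U ∈ s ∧ q ∈ U.1} => (⟨U.1, U.2.1⟩ : s))
      (fun U V h => Subtype.ext (congrArg (fun w => w.1) h))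
  have : Fintype {U : X.affineOpens // U ∈ s ∧ q ∈ U.1} := Fintype.ofFinite _
  obtain ⟨n₁, s₁, hs₁⟩ := exists_generators_opens (afx U₁)
  obtain ⟨n₂, s₂, hs₂⟩ := exists_generators_opens hW
  -- scalars
  letI : Algebra ℂ R := (ρ.comp (strHomU W)).toAlgebra
  letI : Algebra ℂ K := ((algebraMap R K).comp (ρ.comp (strHomU W))).toAlgebra
  have : IsScalarTower ℂ R K := IsScalarTower.of_algebraMap_eq fun _ => rfl
  have hscal : ∀ c : ℂ, ψ₁ (strHomU U₁.1 c) = algebraMap ℂ K c := fun c => by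
    rw [← appLE_strHomU g W U₁.1 (hsW U₁ hU₁s) c]
    exact RingHom.congr_fun (hcomp U₁ (hsW U₁ hU₁s) ψ₁ hψ₁) _
  -- the coordinates to be controlled
  let L : Fin n₁ ⊕ ({U : X.affineOpens // U ∈ s ∧ q ∈ U.1} ⊕ {U : X.affineOpens // U ∈ s ∧ q ∈ U.1}) → K :=
    Sum.elim (fun i => ψ₁ (s₁ i)) (Sum.elim (fun U => ψ₁ (hh U)) (fun U => ψ₁ (cc U) / ψ₁ (hh U) ^ mm U))
  have hdich : ∀ c : K, ∃ r : R, (c = 0 ∧ r = 1) ∨
      (c ≠ 0 ∧ algebraMap R K r = c ∧ r ≠ 0) ∨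
      (c ∉ (algebraMap R K).range ∧ algebraMap R K r = c⁻¹ ∧ r ≠ 0) := by
    intro c
    rcases eq_or_ne c 0 with rfl | hc
    · exact ⟨1, Or.inl ⟨rfl, rfl⟩⟩
    by_cases hcR : c ∈ (algebraMap R K).range
    · obtain ⟨r, rfl⟩ := hcR
      exact ⟨r, Or.inr (Or.inl ⟨hc, rfl, fun h => hc (by rw [h, map_zero])⟩)⟩
    · rcases ValuationRing.isInteger_or_isInteger R c with ⟨r, hr⟩ | ⟨r, hr⟩
      · exact absurd ⟨r, hr⟩ hcR
      · exact ⟨r, Or.inr (Or.inr ⟨hcR, hr, fun h => inv_ne_zero hc (by rw [← hr, h, map_zero])⟩)⟩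
  choose d hd using fun i => hdich (L i)
  let gen : Fin n₂ ⊕ (Fin n₁ ⊕ ({U : X.affineOpens // U ∈ s ∧ q ∈ U.1} ⊕
      {U : X.affineOpens // U ∈ s ∧ q ∈ U.1})) → R := Sum.elim (fun i => ρ (s₂ i)) d
  let A₀ : Subalgebra ℂ R := (MvPolynomial.aeval gen).range
  let σ : _ → A₀ := fun i => ⟨gen i, MvPolynomial.X i, MvPolynomial.aeval_X _ _⟩
  have hσ : Function.Surjective (MvPolynomial.aeval σ : _ →ₐ[ℂ] A₀) := by
    rintro ⟨_, P, rfl⟩
    refine ⟨P, Subtype.ext ?_⟩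
    rw [← Subalgebra.coe_val A₀, ← AlgHom.comp_apply, MvPolynomial.comp_aeval]
    rfl
  have : Algebra.FiniteType ℂ A₀ := Algebra.FiniteType.of_surjective _ hσ
  have hρA : ∀ b, ρ b ∈ A₀ := by
    intro b
    obtain ⟨P, rfl⟩ := hs₂ b
    refine ⟨MvPolynomial.rename Sum.inl P, ?_⟩
    show MvPolynomial.aeval gen _ = _
    rw [MvPolynomial.aeval_rename]
    have : (MvPolynomial.aeval (gen ∘ Sum.inl)).toRingHom = ρ.comp (MvPolynomial.eval₂Hom (strHomU W) s₂) := by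
      refine MvPolynomial.ringHom_ext (fun c => ?_) (fun i => ?_)
      · simp only [AlgHom.toRingHom_eq_coe, RingHom.coe_coe, MvPolynomial.aeval_C, RingHom.comp_apply,
          MvPolynomial.eval₂Hom_C]
        rfl
      · simp [gen]
    exact RingHom.congr_fun this P
  let h : A₀ := ∏ i, σ (Sum.inr i)
  have hd0 : ∀ i, d i ≠ 0 := fun i => by
    rcases hd i with ⟨_, h1⟩ | ⟨_, _, h1⟩ | ⟨_, _, h1⟩
    · rw [h1]; exact one_ne_zero
    · exact h1
    · exact h1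
  have hh' : h ≠ 0 := Finset.prod_ne_zero_iff.2 fun i _ h0 => hd0 i (congrArg Subtype.val h0)
  let e₀ : A₀ →+* K := (algebraMap R K).comp A₀.val.toRingHom
  have he₀ : Function.Injective e₀ := (IsFractionRing.injective R K).comp Subtype.val_injective
  let Λ : Localization.Away h →+* K := IsLocalization.Away.lift h (g := e₀)
    (isUnit_iff_ne_zero.2 ((map_ne_zero_iff _ he₀).2 hh'))
  have hΛ : ∀ a, Λ (algebraMap A₀ _ a) = e₀ a := fun a => IsLocalization.Away.lift_eq h _ a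
  have hΛinj : Function.Injective Λ := by
    rw [injective_iff_map_eq_zero]
    intro x hx
    obtain ⟨n, a, ha⟩ := IsLocalization.Away.surj h x
    have h1 := congrArg Λ ha
    rw [map_mul, hx, zero_mul, hΛ] at h1
    have ha0 : a = 0 := he₀ (h1.symm.trans (map_zero e₀).symm)
    rw [ha0, map_zero] at ha
    exact (IsUnit.mul_left_eq_zero ((IsLocalization.Away.algebraMap_isUnit h).pow n)).1 ha
  have hLΛ : ∀ i, L i ∈ Λ.range := by
    intro i
    rcases hd i with ⟨h1, _⟩ | ⟨_, h1, _⟩ | ⟨_, h1, _⟩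
    · exact ⟨0, by rw [map_zero, h1]⟩
    · exact ⟨algebraMap A₀ _ (σ (Sum.inr i)), by rw [hΛ]; exact h1⟩
    · have hu : IsUnit (algebraMap A₀ (Localization.Away h) (σ (Sum.inr i))) :=
        isUnit_of_dvd_unit (map_dvd _ (Finset.dvd_prod_of_mem (fun i => σ (Sum.inr i)) (Finset.mem_univ i)))
          (IsLocalization.Away.algebraMap_isUnit h)
      refine ⟨↑hu.unit⁻¹, ?_⟩
      rw [map_units_inv Λ, IsUnit.unit_spec, hΛ]
      show (algebraMap R K (d i))⁻¹ = _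
      rw [h1, inv_inv]
  have hψΛ : ∀ b, ψ₁ b ∈ Λ.range := by
    intro b
    obtain ⟨P, rfl⟩ := hs₁ b
    induction P using MvPolynomial.induction_on with
    | C c =>
      refine ⟨algebraMap A₀ _ (algebraMap ℂ A₀ c), ?_⟩
      rw [hΛ, MvPolynomial.eval₂Hom_C, hscal]
      rfl
    | add P Q hP hQ => rw [map_add, map_add]; exact add_mem hP hQ
    | mul_X P i hP =>
      rw [map_mul, map_mul, MvPolynomial.eval₂Hom_X']
      exact mul_mem hP (hLΛ (Sum.inl i))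
  choose ψ' hψ' using hψΛ
  -- the centre
  obtain ⟨φ₀, hφ₀⟩ := exists_algHom ((IsLocalRing.maximalIdeal R).comap A₀.val.toRingHom)
    (Ideal.comap_ne_top _ (IsLocalRing.maximalIdeal.isMaximal R).ne_top)
  have hnear : ∀ k : ℕ, ∃ φ : A₀ →ₐ[ℂ] ℂ,
      dist (fun i => φ (σ i)) (fun i => φ₀ (σ i)) < 1 / (k + 1) ∧ φ h ≠ 0 := fun k =>
    exists_algHom_near σ hσ hh' φ₀
      (Metric.ball_mem_nhds (fun i => φ₀ (σ i)) (by positivity : (0 : ℝ) < 1 / (k + 1)))
  choose φ hφd hφh using hnear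
  have hlim : ∀ a : A₀, Tendsto (fun k => φ k a) atTop (𝓝 (φ₀ a)) := by
    intro a
    obtain ⟨P, rfl⟩ := hσ a
    simp only [apply_eq_eval]
    refine ((MvPolynomial.continuous_eval P).tendsto _).comp ?_
    exact tendsto_iff_dist_tendsto_zero.2 (squeeze_zero (fun _ => dist_nonneg) (fun k => (hφd k).le)
      tendsto_one_div_add_atTop_nhds_zero_nat)
  let Φ : ℕ → Localization.Away h →+* ℂ := fun k =>
    IsLocalization.Away.lift h (g := (φ k).toRingHom) (isUnit_iff_ne_zero.2 (hφh k))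
  have hΦ : ∀ k a, Φ k (algebraMap A₀ _ a) = φ k a := fun k a => IsLocalization.Away.lift_eq h _ a
  have hψ'one : ψ' 1 = 1 := hΛinj (by rw [hψ', map_one, map_one])
  let ψ'' : Γ(X, U₁.1) →+* Localization.Away h :=
    { toFun := ψ'
      map_one' := hψ'one
      map_mul' := fun a b => hΛinj (by rw [map_mul, hψ', hψ', hψ', map_mul])
      map_zero' := hΛinj (by rw [hψ', map_zero, map_zero])
      map_add' := fun a b => hΛinj (by rw [map_add, hψ', hψ', hψ', map_add]) }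
  have hρ' : ∀ b, ψ'' (g.appLE W U₁.1 (hsW U₁ hU₁s) b) = algebraMap A₀ _ ⟨ρ b, hρA b⟩ := by
    intro b
    refine hΛinj ((hψ' _).trans ?_)
    rw [hΛ]
    exact RingHom.congr_fun (hcomp U₁ (hsW U₁ hU₁s) ψ₁ hψ₁) b
  -- the points
  have hpt : ∀ k, ∃ x : Pts X, ∃ hx : x.pt ∈ U₁.1, (∀ b, x.ev U₁.1 hx b = Φ k (ψ'' b)) ∧
      x.pt ∈ closure ({q} : Set X) := by
    intro k
    let θ : Γ(X, U₁.1) →+* ℂ := (Φ k).comp ψ''
    have hθ : θ.comp (strHomU U₁.1) = RingHom.id ℂ := by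
      ext c
      show Φ k (ψ'' (strHomU U₁.1 c)) = c
      rw [← appLE_strHomU g W U₁.1 (hsW U₁ hU₁s) c, hρ', hΦ]
      exact (φ k).commutes c
    have : IsAffine (U₁.1 : Scheme.{0}) := (afx U₁)
    have hover : (Spec.map (CommRingCat.ofHom θ) ≫ (afx U₁).fromSpec) ≫ X ↘ SC = 𝟙 SC := by
      have h1 := IsAffineOpen.SpecMap_appLE_fromSpec (X ↘ SC) (isAffineOpen_top SC) (afx U₁)
        (show U₁.1 ≤ (X ↘ SC) ⁻¹ᵁ ⊤ from fun _ _ => trivial)
      rw [Category.assoc, ← h1, ← Category.assoc, ← Spec.map_comp, IsAffineOpen.fromSpec_top,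
        Scheme.isoSpec_Spec_inv, ← Spec.map_comp, ← Spec.map_id]
      congr 1
      ext c
      exact RingHom.congr_fun hθ c
    let x : Pts X := ⟨Spec.map (CommRingCat.ofHom θ) ≫ (afx U₁).fromSpec, hover⟩
    obtain ⟨hx, hev⟩ := ev_eq_of_eq_specMap x (afx U₁) θ rfl
    refine ⟨x, hx, hev, ?_⟩
    have hp : (afx U₁).fromSpec (Spec.map (CommRingCat.ofHom ψ₁) z) = q := by
      rw [hq, ← hψ₁, Scheme.Hom.comp_apply]
    show (Spec.map (CommRingCat.ofHom θ) ≫ (afx U₁).fromSpec) cpt ∈ _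
    rw [← hp, Scheme.Hom.comp_apply]
    refine mem_closure_fromSpec (afx U₁) ψ₁ z _ fun b hb => ?_
    show θ b ∈ cpt.asIdeal
    have : ψ'' b = 0 := hΛinj ((hψ' b).trans (hb.trans (map_zero Λ).symm))
    show Φ k (ψ'' b) ∈ _
    rw [this, map_zero]
    exact Ideal.zero_mem _
  choose x hx hxev hxcl using hpt
  have hy₀ : ∃ y : Pts Y, ∃ hy : y.pt ∈ W, ∀ b, y.ev W hy b = φ₀ ⟨ρ b, hρA b⟩ := by
    let θ : Γ(Y, W) →+* ℂ := φ₀.toRingHom.comp (ρ.codRestrict A₀ hρA)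
    have hover : (Spec.map (CommRingCat.ofHom θ) ≫ hW.fromSpec) ≫ Y ↘ SC = 𝟙 SC := by
      have h1 := IsAffineOpen.SpecMap_appLE_fromSpec (Y ↘ SC) (isAffineOpen_top SC) hW
        (show W ≤ (Y ↘ SC) ⁻¹ᵁ ⊤ from fun _ _ => trivial)
      rw [Category.assoc, ← h1, ← Category.assoc, ← Spec.map_comp, IsAffineOpen.fromSpec_top,
        Scheme.isoSpec_Spec_inv, ← Spec.map_comp, ← Spec.map_id]
      congr 1
      ext c
      exact φ₀.commutes c
    obtain ⟨hy, hev⟩ := ev_eq_of_eq_specMap ⟨_, hover⟩ hW θ rfl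
    exact ⟨⟨_, hover⟩, hy, hev⟩
  obtain ⟨y₀, hy₀W, hy₀ev⟩ := hy₀
  have hyk : ∀ k b, ∃ hk : (Pts.map g (x k)).pt ∈ W,
      (Pts.map g (x k)).ev W hk b = φ k ⟨ρ b, hρA b⟩ := by
    intro k b
    have hk : (Pts.map g (x k)).pt ∈ W := by rw [Pts.pt_map]; exact hsW U₁ hU₁s (hx k)
    refine ⟨hk, ?_⟩
    rw [Pts.ev_map, ← hΦ, ← hρ', ← hxev]
    exact (ev_res (x k) (hsW U₁ hU₁s) (hx k) (g.app W b)).symm
  have htend : Tendsto (fun k => Pts.map g (x k)) atTop (𝓝 y₀) := by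
    refine tendsto_of_forall_ev hW hy₀W (Eventually.of_forall fun k => (hyk k 1).1) fun b V hV hb => ?_
    rw [hy₀ev] at hb
    filter_upwards [(hlim _) (hV.mem_nhds hb)] with k hk
    exact ⟨(hyk k b).1, (hyk k b).2.symm ▸ hk⟩
  obtain ⟨v, hv⟩ := Ultrafilter.exists_le (atTop : Filter ℕ)
  obtain ⟨x₀, hx₀, hle₀⟩ := (isProperMap_iff_ultrafilter.1 hproper).2 (𝒰 := v.map x)
    (y := y₀) ((htend.mono_left hv) : Tendsto (Pts.map g) (map x v) (𝓝 y₀))
  have htx : Tendsto x (v : Filter ℕ) (𝓝 x₀) := hle₀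
  have hx₀W : x₀.pt ∈ g ⁻¹ᵁ W := by
    show g x₀.pt ∈ W
    rw [← Pts.pt_map, hx₀]
    exact hy₀W
  obtain ⟨U, hUs, hx₀U⟩ := Set.mem_iUnion₂.1 (hcov'.le hx₀W)
  have hx₀cl : x₀.pt ∈ closure ({q} : Set X) :=
    (isClosed_closure.preimage Pts.continuous_pt).mem_of_tendsto htx (Eventually.of_forall hxcl)
  have hqU : q ∈ U.1 := (specializes_iff_mem_closure.2 hx₀cl).mem_open U.1.2 hx₀U
  let j : {U : X.affineOpens // U ∈ s ∧ q ∈ U.1} := ⟨U, hUs, hqU⟩
  -- the bad coordinate tends to infinity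
  have hi := hd (Sum.inr (Sum.inr j))
  have hnotR : L (Sum.inr (Sum.inr j)) ∉ (algebraMap R K).range := habad j
  obtain ⟨hL0, hdinv⟩ : L (Sum.inr (Sum.inr j)) ≠ 0 ∧
      algebraMap R K (d (Sum.inr (Sum.inr j))) = (L (Sum.inr (Sum.inr j)))⁻¹ := by
    rcases hi with ⟨h1, _⟩ | ⟨_, h1, _⟩ | ⟨_, h1, _⟩
    · exact absurd ⟨0, by rw [map_zero, h1]⟩ hnotR
    · exact absurd ⟨_, h1⟩ hnotR
    · exact ⟨fun h0 => hnotR ⟨0, by rw [map_zero, h0]⟩, h1⟩
  set τ : A₀ := σ (Sum.inr (Sum.inr (Sum.inr j))) with hτ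
  have hτm : (τ : R) ∈ IsLocalRing.maximalIdeal R := by
    rw [IsLocalRing.mem_maximalIdeal, mem_nonunits_iff]
    intro hu
    apply hnotR
    refine ⟨↑hu.unit⁻¹, ?_⟩
    rw [map_units_inv (algebraMap R K), IsUnit.unit_spec]
    show (algebraMap R K (d _))⁻¹ = _
    rw [hdinv, inv_inv]
  have hτ0 : φ₀ τ = 0 := hφ₀ τ hτm
  have hsh : ∀ i, φ₀ (σ i) = φ₀ (σ i) := fun _ => rfl
  have hnz : ∀ k, Φ k (ψ'' (hh j)) ≠ 0 := by
    intro k
    have hu : IsUnit (ψ'' (hh j)) := by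
      rcases hd (Sum.inr (Sum.inl j)) with ⟨h1, _⟩ | ⟨_, h1, _⟩ | ⟨_, h1, _⟩
      · exact absurd h1 (hh0 j)
      · have e : ψ'' (hh j) = algebraMap A₀ _ (σ (Sum.inr (Sum.inr (Sum.inl j)))) :=
          hΛinj (by rw [hΛ]; exact (hψ' _).trans h1.symm)
        rw [e]
        exact isUnit_of_dvd_unit (map_dvd _ (Finset.dvd_prod_of_mem (fun i => σ (Sum.inr i)) (Finset.mem_univ (Sum.inr (Sum.inl j)))))
          (IsLocalization.Away.algebraMap_isUnit h)
      · refine IsUnit.of_mul_eq_one (algebraMap A₀ _ (σ (Sum.inr (Sum.inr (Sum.inl j))))) (hΛinj ?_)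
        rw [map_mul, hΛ, map_one]
        show Λ (ψ' _) * algebraMap R K (d _) = 1
        rw [hψ', h1]
        exact mul_inv_cancel₀ (hh0 j)
    exact (hu.map (Φ k)).ne_zero
  have hkey : ∀ k, ∃ hk : (x k).pt ∈ U.1, (x k).ev U.1 hk (bb j) * φ k τ = 1 := by
    intro k
    have hne : (x k).ev U₁.1 (hx k) (hh j) ≠ 0 := by rw [hxev]; exact hnz k
    have hk' : (x k).pt ∈ X.basicOpen (hh j) := (mem_basicOpen_iff _ _ (hx k) _).2 hne
    refine ⟨hle j hk', ?_⟩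
    have h1 := congrArg (evHom (x k) (X.basicOpen (hh j)) hk') (heq j)
    rw [map_mul, map_pow, evHom_apply, evHom_apply, evHom_apply, ev_res (x k) (hle j) hk',
      ev_res (x k) (X.basicOpen_le _) hk', ev_res (x k) (X.basicOpen_le _) hk', hxev, hxev] at h1
    have h2 : ψ'' (cc j) * algebraMap A₀ _ τ = ψ'' (hh j) ^ mm j := hΛinj (by
      rw [map_mul, map_pow, hΛ]
      show Λ (ψ' _) * algebraMap R K (d _) = Λ (ψ' _) ^ _
      rw [hψ', hψ', hdinv]
      show ψ₁ (cc j) * (ψ₁ (cc j) / ψ₁ (hh j) ^ mm j)⁻¹ = ψ₁ (hh j) ^ mm j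
      have hc : ψ₁ (cc j) ≠ 0 := fun h0 => hL0 (by
        show ψ₁ (cc j) / ψ₁ (hh j) ^ mm j = 0
        rw [h0, zero_div])
      rw [inv_div]
      field_simp)
    have h3 := congrArg (Φ k) h2
    rw [map_mul, map_pow, hΦ, ← h1] at h3
    refine mul_right_cancel₀ (pow_ne_zero (mm j) (hnz k)) ?_
    rw [one_mul]
    linear_combination h3
  choose hk hkey using hkey
  have hV : ∀ᶠ k in (v : Filter ℕ), ‖(x k).ev U.1 (hk k) (bb j)‖ < ‖x₀.ev U.1 hx₀U (bb j)‖ + 1 := by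
    have hopen : IsOpen (Pts.basicSet U.1 (bb j) {c : ℂ | ‖c‖ < ‖x₀.ev U.1 hx₀U (bb j)‖ + 1}) :=
      Pts.isOpen_basicSet _ _ (isOpen_lt continuous_norm continuous_const)
    filter_upwards [htx (hopen.mem_nhds ⟨hx₀U, (show ‖x₀.ev U.1 hx₀U (bb j)‖ < ‖x₀.ev U.1 hx₀U (bb j)‖ + 1 from lt_add_one _)⟩)] with k ⟨_, hk'⟩
    exact hk'
  have hsmall : ∀ᶠ k in (v : Filter ℕ), ‖φ k τ‖ < 1 / (‖x₀.ev U.1 hx₀U (bb j)‖ + 1) := by
    refine hv ?_
    have := (hlim τ).norm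
    rw [hτ0, norm_zero] at this
    exact this.eventually (Iio_mem_nhds (by positivity))
  obtain ⟨k, hk1, hk2⟩ := (hV.and hsmall).exists
  have h4 : ‖(x k).ev U.1 (hk k) (bb j)‖ * ‖φ k τ‖ = 1 := by rw [← norm_mul, hkey k, norm_one]
  have h5 : ‖(x k).ev U.1 (hk k) (bb j)‖ * ‖φ k τ‖ <
      (‖x₀.ev U.1 hx₀U (bb j)‖ + 1) * (1 / (‖x₀.ev U.1 hx₀U (bb j)‖ + 1)) :=
    mul_lt_mul'' hk1 hk2 (norm_nonneg _) (norm_nonneg _)
  rw [h4, mul_one_div, div_self (by positivity)] at h5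
  exact lt_irrefl _ h5

theorem universallyClosed_of_isProperMap [LocallyOfFiniteType (X ↘ SC)] [LocallyOfFiniteType (Y ↘ SC)]
    (g : X ⟶ Y) [g.IsOver SC] [QuasiCompact g] (hproper : IsProperMap (Pts.map g)) :
    UniversallyClosed g :=
  UniversallyClosed.of_valuativeCriterion g (existence_of_isProperMap g hproper)

end Groth.Agent.An92
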