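import Groth.Agent.An92.Dense
import Mathlib.AlgebraicGeometry.Morphisms.Separated
import Mathlib.Topology.SeparatedMap

/-!
Properties of morphisms read off on complex points: injective, surjective, dominant, separated.
-/

set_option autoImplicit false

noncomputable section

open AlgebraicGeometry CategoryTheory CategoryTheory.Limits TopologicalSpace Topology

namespace Groth.Agent.An92

open An An.Pts

variable {X Y : Scheme.{0}} [X.Over SC] [Y.Over SC] [LocallyOfFiniteType (X ↘ SC)]
  [LocallyOfFiniteType (Y ↘ SC)] (f : X ⟶ Y) [f.IsOver SC]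

theorem locallyOfFinitePresentation : LocallyOfFinitePresentation f := by
  have := isLocallyNoetherian Y
  have : LocallyOfFiniteType (f ≫ Y ↘ SC) := by rw [comp_over]; infer_instance
  exact LocallyOfFinitePresentation.iff_locallyOfFiniteType.2
    (locallyOfFiniteType_of_comp f (Y ↘ SC))

/-- A complex point of the target in the image of a locally closed set lifts into it. -/
theorem exists_map_eq_of_mem_image {L : Set X} (hL : IsLocallyClosed L) (y : Pts Y)
    (hy : y.pt ∈ f '' L) : ∃ x : Pts X, x.pt ∈ L ∧ Pts.map f x = y := by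
  obtain ⟨a, ha, hay⟩ := hy
  obtain ⟨x, hxL, hxy⟩ := exists_pt_mem (S := L ∩ f ⁻¹' {y.pt})
    (hL.inter ((isClosed_pt y).preimage f.continuous).isLocallyClosed) ⟨a, ha, hay⟩
  exact ⟨x, hxL, pt_injective (by rw [Pts.pt_map]; exact hxy)⟩

theorem range_map : Set.range (Pts.map f) = Pts.pt ⁻¹' Set.range f := by
  refine subset_antisymm ?_ fun y hy => ?_
  · rintro _ ⟨x, rfl⟩
    exact ⟨x.pt, (Pts.pt_map f x).symm⟩
  · obtain ⟨x, -, hx⟩ := exists_map_eq_of_mem_image f isClosed_univ.isLocallyClosed y
      (by rwa [Set.image_univ])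
    exact ⟨x, hx⟩

theorem surjective_iff [QuasiCompact f] :
    Function.Surjective f ↔ Function.Surjective (Pts.map f) := by
  refine ⟨fun h y => ?_, fun h => ?_⟩
  · exact (range_map f).ge (h y.pt)
  · have := locallyOfFinitePresentation f
    have hc : IsLocallyConstructible (Set.range f)ᶜ := isLocallyConstructible_compl
      (Set.image_univ ▸ f.isLocallyConstructible_image IsLocallyConstructible.univ)
    intro p
    by_contra hp
    obtain ⟨y, hy⟩ := exists_pt_of_isLocallyConstructible hc ⟨p, hp⟩
    obtain ⟨x, rfl⟩ := h y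
    exact hy ⟨x.pt, (Pts.pt_map f x).symm⟩

theorem denseRange_iff [QuasiCompact f] : DenseRange f ↔ DenseRange (Pts.map f) := by
  have := locallyOfFinitePresentation f
  rw [DenseRange, DenseRange, range_map]
  exact dense_iff_of_isLocallyConstructible
    (Set.image_univ ▸ f.isLocallyConstructible_image IsLocallyConstructible.univ)

omit [X.Over SC] [Y.Over SC] [LocallyOfFiniteType (X ↘ SC)] [LocallyOfFiniteType (Y ↘ SC)]
  [f.IsOver SC] in
theorem isConstructible_of_isLocallyClosed_of_isAffineOpen [IsLocallyNoetherian X] {U : X.Opens}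
    (hU : IsAffineOpen U) {S : Set X} (hS : IsLocallyClosed S) :
    IsConstructible (U.ι ⁻¹' S) := by
  have : IsAffine (U : Scheme.{0}) := hU
  have : IsNoetherian (U : Scheme.{0}) := {}
  exact ConstrTop58.isConstructible_of_isLocallyClosed (hS.preimage U.ι.continuous)

theorem injective_iff : Function.Injective f ↔ Function.Injective (Pts.map f) := by
  refine ⟨fun h x x' he => pt_injective (h ?_), fun h => ?_⟩
  · rw [← Pts.pt_map, ← Pts.pt_map, he]
  have hX := isLocallyNoetherian X
  have hY := isLocallyNoetherian Y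
  -- reduce to two points, the first not a specialisation of the second
  suffices ∀ a b : X, f a = f b → a ∈ closure ({b} : Set X) by
    intro a b hab
    exact ((specializes_iff_mem_closure.2 (this b a hab.symm)).antisymm
      (specializes_iff_mem_closure.2 (this a b hab))).eq
  intro a b hab
  by_contra hcl
  obtain ⟨W, hW, hfW, -⟩ := exists_isAffineOpen_mem_and_subset (U := ⊤) (Opens.mem_top (f a))
  obtain ⟨U, hU, haU, hUW⟩ := exists_isAffineOpen_mem_and_subset (U := f ⁻¹ᵁ W) (x := a) hfW
  obtain ⟨V, hV, hbV, hVW⟩ := exists_isAffineOpen_mem_and_subset (U := f ⁻¹ᵁ W) (x := b)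
    (show f b ∈ W from hab ▸ hfW)
  let A : Set X := (closure {a} \ closure {b}) ∩ U
  let B : Set X := closure {b} ∩ V
  have hA : IsLocallyClosed A :=
    (isClosed_closure.isLocallyClosed.inter isClosed_closure.isOpen_compl.isLocallyClosed).inter
      U.2.isLocallyClosed
  have hB : IsLocallyClosed B := isClosed_closure.isLocallyClosed.inter V.2.isLocallyClosed
  -- images in the affine piece are constructible
  have himg : ∀ (O : X.Opens) (hO : IsAffineOpen O) (hle : O ≤ f ⁻¹ᵁ W) (S : Set X),
      IsLocallyClosed S → S ⊆ O → IsLocallyConstructible (W.ι ⁻¹' (f '' S)) := by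
    intro O hO hle S hS hSO
    let q := f.resLE W O hle
    have : IsAffine (O : Scheme.{0}) := hO
    have : IsAffine (W : Scheme.{0}) := hW
    have : LocallyOfFinitePresentation f := locallyOfFinitePresentation f
    have : LocallyOfFinitePresentation q := by
      have : LocallyOfFinitePresentation (q ≫ W.ι) := by
        rw [Scheme.Hom.resLE_comp_ι]; infer_instance
      exact LocallyOfFinitePresentation.iff_locallyOfFiniteType.2
        (locallyOfFiniteType_of_comp q W.ι)
    have := q.isLocallyConstructible_image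
      (isConstructible_of_isLocallyClosed_of_isAffineOpen hO hS).isLocallyConstructible
    convert this using 1
    ext w
    have hq : ∀ z, W.ι (q z) = f (O.ι z) := fun z => by
      rw [← Scheme.Hom.comp_apply, Scheme.Hom.resLE_comp_ι, Scheme.Hom.comp_apply]
    constructor
    · rintro ⟨z, hz, hzw⟩
      exact ⟨⟨z, hSO hz⟩, hz, W.ι.isOpenEmbedding.injective ((hq _).trans hzw)⟩
    · rintro ⟨z, hz, rfl⟩
      exact ⟨O.ι z, hz, (hq z).symm⟩
  have hT : IsLocallyConstructible (W.ι ⁻¹' (f '' A) ∩ W.ι ⁻¹' (f '' B)) :=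
    (himg U hU hUW A hA Set.inter_subset_right).inter (himg V hV hVW B hB Set.inter_subset_right)
  obtain ⟨y, hyA, hyB⟩ := exists_pt_of_isLocallyConstructible (X := (W : Scheme.{0})) hT
    ⟨⟨f a, hfW⟩, ⟨a, ⟨⟨subset_closure rfl, hcl⟩, haU⟩, rfl⟩,
      ⟨b, ⟨subset_closure rfl, hbV⟩, hab.symm⟩⟩
  obtain ⟨x, hx, hxy⟩ := exists_map_eq_of_mem_image f hA (Pts.map W.ι y)
    (by rw [Pts.pt_map]; exact hyA)
  obtain ⟨x', hx', hxy'⟩ := exists_map_eq_of_mem_image f hB (Pts.map W.ι y)
    (by rw [Pts.pt_map]; exact hyB)
  obtain rfl := h (hxy.trans hxy'.symm)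
  exact hx.1.2 hx'.1

theorem isSeparated_iff : IsSeparated f ↔ IsSeparatedMap (Pts.map f) := by
  have : LocallyOfFiniteType f := by
    have := locallyOfFinitePresentation f; infer_instance
  let δ := pullback.diagonal f
  have : δ.IsOver SC := ⟨by
    show δ ≫ pullback.fst f f ≫ X ↘ SC = X ↘ SC
    rw [pullback.diagonal_fst_assoc]⟩
  have : LocallyOfFiniteType ((pullback f f) ↘ SC) :=
    inferInstanceAs (LocallyOfFiniteType (pullback.fst f f ≫ X ↘ SC))
  have := isLocallyNoetherian (pullback f f)
  have h1 : IsSeparated f ↔ IsClosed (Set.range δ) :=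
    ⟨fun h => h.isClosedImmersion_diagonal.base_closed.isClosed_range,
      fun h => ⟨IsClosedImmersion.of_isPreimmersion δ h⟩⟩
  have hloc : IsLocallyConstructible (Set.range δ) := fun p => by
    obtain ⟨V, hV, hpV, -⟩ := exists_isAffineOpen_mem_and_subset (U := ⊤) (Opens.mem_top p)
    exact ⟨V, V.2.mem_nhds hpV, V.2,
      isConstructible_of_isLocallyClosed_of_isAffineOpen hV δ.isLocallyClosed_range⟩
  have h2 := isClosed_iff_of_isLocallyConstructible hloc
  rw [h1, h2, ← range_map_of_isImmersion δ, isSeparatedMap_iff_isClosed_diagonal,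
    ← (isHomeomorph_pullback f f).homeomorph.isClosed_image]
  have himage : (isHomeomorph_pullback f f).homeomorph '' Set.range (Pts.map δ) =
      Function.pullbackDiagonal (Pts.map f) := by
    ext ⟨⟨u, v⟩, huv⟩
    constructor
    · rintro ⟨_, ⟨x, rfl⟩, he⟩
      have h3 := congrArg Subtype.val he
      simp only [IsHomeomorph.homeomorph_apply, Prod.mk.injEq] at h3
      show u = v
      rw [← h3.1, ← h3.2]
      refine Subtype.ext ?_
      simp only [Pts.map_val, Category.assoc, δ, pullback.diagonal_fst, pullback.diagonal_snd]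
    · intro he
      have he' : u = v := he
      subst he'
      refine ⟨_, ⟨u, rfl⟩, Subtype.ext (Prod.ext (Subtype.ext ?_) (Subtype.ext ?_))⟩
      · simp only [IsHomeomorph.homeomorph_apply, Pts.map_val, Category.assoc, δ,
          pullback.diagonal_fst, Category.comp_id]
      · simp only [IsHomeomorph.homeomorph_apply, Pts.map_val, Category.assoc, δ,
          pullback.diagonal_snd, Category.comp_id]
  rw [himage]

theorem subsingleton_pts_base : Subsingleton (Pts SC) :=
  ⟨fun a b => Subtype.ext ((Category.comp_id a.1).symm.trans ((a.2.trans b.2.symm).trans (Category.comp_id b.1)))⟩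

theorem isSeparated_iff_t2Space : IsSeparated (X ↘ SC) ↔ T2Space (Pts X) := by
  have : (X ↘ SC).IsOver SC := ⟨Category.comp_id _⟩
  have : LocallyOfFiniteType (SC ↘ SC) := inferInstanceAs (LocallyOfFiniteType (𝟙 SC))
  have := subsingleton_pts_base
  rw [isSeparated_iff (X ↘ SC), t2space_iff_isSeparatedMap (⟨𝟙 SC, Category.comp_id _⟩ : Pts SC)]
  have : Pts.map (X ↘ SC) = fun _ : Pts X => (⟨𝟙 SC, Category.comp_id _⟩ : Pts SC) :=
    funext fun _ => Subsingleton.elim _ _
  rw [this]
  exact Iff.rfl

theorem discreteTopology_iff : DiscreteTopology X ↔ DiscreteTopology (Pts X) := by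
  refine ⟨fun _ => DiscreteTopology.of_continuous_injective Pts.continuous_pt pt_injective, fun _ => ?_⟩
  have := isLocallyNoetherian X
  have := jacobsonSpace X
  have hloc : ∀ p : X, IsClosed ({p} : Set X) → IsLocallyConstructible ({p} : Set X) := fun p hp q => by
    obtain ⟨V, hV, hqV, -⟩ := exists_isAffineOpen_mem_and_subset (U := ⊤) (Opens.mem_top q)
    exact ⟨V, V.2.mem_nhds hqV, V.2,
      isConstructible_of_isLocallyClosed_of_isAffineOpen hV hp.isLocallyClosed⟩
  have hopen : ∀ p : X, IsClosed ({p} : Set X) → IsOpen ({p} : Set X) := fun p hp =>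
    (isOpen_iff_of_isLocallyConstructible (hloc p hp)).2 (isOpen_discrete _)
  rw [discreteTopology_iff_isOpen_singleton]
  intro q
  obtain ⟨p, hpq, hp⟩ := nonempty_inter_closedPoints (Z := closure ({q} : Set X))
    ⟨q, subset_closure rfl⟩ isClosed_closure.isLocallyClosed
  have : q ∈ ({p} : Set X) :=
    (specializes_iff_mem_closure.2 hpq).mem_open (hopen p hp) rfl
  rw [Set.mem_singleton_iff.1 this]
  exact hopen p hp

end Groth.Agent.An92
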