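import Groth.Prelude.Def_AnEps
import Groth.Agent.An92.Affine
import Groth.Agent.An92.AlgDense
import Mathlib.AlgebraicGeometry.Morphisms.Etale
import Mathlib.RingTheory.Etale.StandardEtale
import Mathlib.RingTheory.Unramified.LocalStructure
import Mathlib.Topology.IsLocalHomeomorph

/-!
Etale morphisms give local homeomorphisms on complex points.
-/

set_option autoImplicit false

noncomputable section

open AlgebraicGeometry CategoryTheory TopologicalSpace Topology Polynomial Filter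

namespace Groth.Agent.An92

open An An.Pts

section Roots

variable {Z : Type} [TopologicalSpace Z] (F : Z → ℂ[X]) {D : ℕ}

/-- The difference quotient of a polynomial. -/
def diffQuot (p : ℂ[X]) (n : ℕ) (s t : ℂ) : ℂ :=
  ∑ i ∈ Finset.range n, p.coeff i * ∑ j ∈ Finset.range i, t ^ j * s ^ (i - 1 - j)

theorem sub_mul_diffQuot (p : ℂ[X]) (n : ℕ) (hn : p.natDegree < n) (s t : ℂ) :
    (t - s) * diffQuot p n s t = p.eval t - p.eval s := by
  rw [eval_eq_sum_range' hn, eval_eq_sum_range' hn, ← Finset.sum_sub_distrib, diffQuot, Finset.mul_sum]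
  refine Finset.sum_congr rfl fun i _ => ?_
  rw [← mul_sub, ← geom_sum₂_mul]
  ring

theorem diffQuot_self (p : ℂ[X]) (n : ℕ) (hn : p.natDegree < n) (t : ℂ) :
    diffQuot p n t t = p.derivative.eval t := by
  rw [derivative_eval, sum_over_range' p (fun i => by simp) n hn, diffQuot]
  refine Finset.sum_congr rfl fun i _ => ?_
  have : ∀ j ∈ Finset.range i, t ^ j * t ^ (i - 1 - j) = t ^ (i - 1) := fun j hj => by
    rw [← pow_add]
    congr 1
    have := Finset.mem_range.1 hj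
    omega
  rw [Finset.sum_congr rfl this, Finset.sum_const, Finset.card_range, nsmul_eq_mul]
  ring

variable {F} (hm : ∀ z, (F z).Monic) (hd : ∀ z, (F z).natDegree = D)
  (hc : ∀ i, Continuous fun z => (F z).coeff i)

include hm hd hc in
theorem continuous_evalFam : Continuous fun q : Z × ℂ => (F q.1).eval q.2 := by
  have : (fun q : Z × ℂ => (F q.1).eval q.2) =
      fun q => ∑ i ∈ Finset.range (D + 1), (F q.1).coeff i * q.2 ^ i := by
    funext q
    exact eval_eq_sum_range' (by rw [hd]; exact Nat.lt_succ_self D) q.2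
  rw [this]
  exact continuous_finsetSum _ fun i _ => ((hc i).comp continuous_fst).mul (continuous_snd.pow i)

include hm hd hc in
/-- A simple root of a family of monic polynomials extends to a continuous family of unique roots. -/
theorem exists_root_family {z₀ : Z} {t₀ : ℂ} (h₀ : (F z₀).eval t₀ = 0)
    (h₁ : (F z₀).derivative.eval t₀ ≠ 0) {W : Set (Z × ℂ)} (hW : IsOpen W) (hzW : (z₀, t₀) ∈ W) :
    ∃ (N : Set Z) (B : Set ℂ) (r : Z → ℂ), IsOpen N ∧ z₀ ∈ N ∧ IsOpen B ∧ t₀ ∈ B ∧ N ×ˢ B ⊆ W ∧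
      ContinuousOn r N ∧ ∀ z ∈ N, ∀ t, (t ∈ B ∧ (F z).eval t = 0) ↔ t = r z := by
  have hD : 0 < D := by
    by_contra h
    push Not at h
    apply h₁
    have : (F z₀).natDegree = 0 := by rw [hd]; omega
    rw [Polynomial.derivative_of_natDegree_zero this, eval_zero]
  let H : Z × ℂ × ℂ → ℂ := fun q => diffQuot (F q.1) (D + 1) q.2.1 q.2.2
  have hH : Continuous H := continuous_finsetSum _ fun i _ =>
    ((hc i).comp continuous_fst).mul (continuous_finsetSum _ fun j _ =>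
      ((continuous_snd.comp continuous_snd).pow j).mul
        ((continuous_fst.comp continuous_snd).pow _))
  have hH0 : H (z₀, t₀, t₀) ≠ 0 := by
    show diffQuot _ _ _ _ ≠ 0
    rw [diffQuot_self _ _ (by rw [hd]; exact Nat.lt_succ_self D)]
    exact h₁
  obtain ⟨N₁, hN₁, O, hO, hNO⟩ := mem_nhds_prod_iff.1 ((isOpen_ne.preimage hH).mem_nhds hH0)
  obtain ⟨O₁, hO₁, O₂, hO₂, hOO⟩ := mem_nhds_prod_iff.1 hO
  obtain ⟨N₂, hN₂, O₃, hO₃, hNW⟩ := mem_nhds_prod_iff.1 (hW.mem_nhds hzW)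
  obtain ⟨ε, hε, hball⟩ := Metric.mem_nhds_iff.1 (inter_mem (inter_mem hO₁ hO₂) hO₃)
  obtain ⟨M, hMsub, hMo, hzM⟩ := mem_nhds_iff.1 (inter_mem hN₁ hN₂)
  let N : Set Z := M ∩ {z | ‖(F z).eval t₀‖ < ε ^ D}
  have hN : IsOpen N := hMo.inter (isOpen_lt
    ((continuous_evalFam hm hd hc).comp (continuous_id.prodMk continuous_const)).norm continuous_const)
  have hex : ∀ z ∈ N, ∃ t ∈ Metric.ball t₀ ε, (F z).eval t = 0 := by
    intro z hz
    obtain ⟨r, hr, hle⟩ := exists_root_near (F z) (hm z) (by rw [hd]; exact hD) t₀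
    refine ⟨r, ?_, hr⟩
    rw [hd] at hle
    rw [Metric.mem_ball, dist_eq_norm, norm_sub_rev]
    exact lt_of_pow_lt_pow_left₀ D hε.le (hle.trans_lt hz.2)
  have huniq : ∀ z ∈ N, ∀ t ∈ Metric.ball t₀ ε, ∀ t' ∈ Metric.ball t₀ ε,
      (F z).eval t = 0 → (F z).eval t' = 0 → t = t' := by
    intro z hz t ht t' ht' h h'
    have hmem : (z, t', t) ∈ H ⁻¹' {y | y ≠ 0} :=
      hNO ⟨(hMsub hz.1).1, hOO ⟨(hball ht').1.1, (hball ht).1.2⟩⟩
    have := sub_mul_diffQuot (F z) (D + 1) (by rw [hd]; exact Nat.lt_succ_self D) t' t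
    rw [h, h', sub_zero] at this
    exact sub_eq_zero.1 ((mul_eq_zero.1 this).resolve_right hmem)
  classical
  choose! r hrB hr using hex
  refine ⟨N, Metric.ball t₀ ε, r, hN, ⟨hzM, by simpa [h₀] using pow_pos hε D⟩, Metric.isOpen_ball,
    Metric.mem_ball_self hε, fun q hq => hNW ⟨(hMsub hq.1.1).2, (hball hq.2).2⟩, ?_, ?_⟩
  · intro z hz
    rw [ContinuousWithinAt, Metric.tendsto_nhds]
    intro δ hδ
    obtain ⟨η, hη, hηδ, hηball⟩ : ∃ η > 0, η ≤ δ ∧ Metric.ball (r z) η ⊆ Metric.ball t₀ ε := by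
      obtain ⟨η, hη, hb⟩ := Metric.isOpen_iff.1 Metric.isOpen_ball _ (hrB z hz)
      exact ⟨min η δ, lt_min hη hδ, min_le_right _ _,
        (Metric.ball_subset_ball (min_le_left _ _)).trans hb⟩
    have hsmall : {z' | ‖(F z').eval (r z)‖ < η ^ D} ∈ 𝓝 z := by
      refine (isOpen_lt ((continuous_evalFam hm hd hc).comp
        (continuous_id.prodMk continuous_const)).norm continuous_const).mem_nhds ?_
      simpa [hr z hz] using pow_pos hη D
    filter_upwards [nhdsWithin_le_nhds hsmall, self_mem_nhdsWithin] with z' hz' hz'N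
    obtain ⟨s, hs, hle⟩ := exists_root_near (F z') (hm z') (by rw [hd]; exact hD) (r z)
    rw [hd] at hle
    have hsη : s ∈ Metric.ball (r z) η := by
      rw [Metric.mem_ball, dist_eq_norm, norm_sub_rev]
      exact lt_of_pow_lt_pow_left₀ D hη.le (hle.trans_lt hz')
    rw [← huniq z' hz'N s (hηball hsη) (r z') (hrB z' hz'N) hs (hr z' hz'N)]
    exact (Metric.mem_ball.1 hsη).trans_le hηδ
  · intro z hz t
    refine ⟨fun ⟨ht, h⟩ => huniq z hz t ht (r z) (hrB z hz) h (hr z hz), ?_⟩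
    rintro rfl
    exact ⟨hrB z hz, hr z hz⟩

end Roots

variable {X Y : Scheme.{0}} [X.Over SC] [Y.Over SC]

theorem appTop_strHom (f : X ⟶ Y) [f.IsOver SC] (c : ℂ) : f.appTop (strHom Y c) = strHom X c := by
  have h : (f ≫ Y ↘ SC).appTop = (X ↘ SC).appTop := by rw [comp_over]
  rw [Scheme.Hom.comp_appTop] at h
  exact congrArg (fun k => k.hom ((Scheme.ΓSpecIso (CommRingCat.of ℂ)).inv c)) h

theorem evTop_mul_pow (x : Pts X) (a b : Γ(X, ⊤)) (n : ℕ) :
    x.evTop (a * b ^ n) = x.evTop a * x.evTop b ^ n :=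
  (map_mul (evHom x ⊤ (Opens.mem_top _)) a (b ^ n)).trans
    (congrArg (x.evTop a * ·) (map_pow (evHom x ⊤ (Opens.mem_top _)) b n))

theorem evTop_map (f : X ⟶ Y) [f.IsOver SC] (x : Pts X) (a : Γ(Y, ⊤)) :
    (Pts.map f x).evTop a = x.evTop (f.appTop a) := Pts.ev_map f x ⊤ (Opens.mem_top _) a

set_option maxHeartbeats 400000 in
/-- Standard etale morphisms of affine schemes. -/
theorem isLocalHomeomorph_of_standardEtale [IsAffine X] [IsAffine Y] (f : X ⟶ Y) [f.IsOver SC]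
    (h : @Algebra.IsStandardEtale Γ(Y, ⊤) Γ(X, ⊤) _ _ f.appTop.hom.toAlgebra) :
    IsLocalHomeomorph (Pts.map f) := by
  letI : Algebra Γ(Y, ⊤) Γ(X, ⊤) := f.appTop.hom.toAlgebra
  obtain ⟨P⟩ := h.nonempty_standardEtalePresentation
  let e : Pts X → Pts Y × ℂ := fun x => (Pts.map f x, x.evTop P.x)
  let F : Pts Y → ℂ[X] := fun y => P.f.map (evHom y ⊤ (Opens.mem_top _))
  let G : Pts Y → ℂ[X] := fun y => P.g.map (evHom y ⊤ (Opens.mem_top _))
  have hFm : ∀ y, (F y).Monic := fun y => P.monic_f.map _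
  have hFd : ∀ y, (F y).natDegree = P.f.natDegree := fun y => P.monic_f.natDegree_map _
  have hFc : ∀ i, Continuous fun y => (F y).coeff i := fun i => by
    simp only [F, coeff_map]
    exact continuous_evTop _
  have hGc : Continuous fun q : Pts Y × ℂ => (G q.1).eval q.2 := by
    have : (fun q : Pts Y × ℂ => (G q.1).eval q.2) =
        fun q => ∑ i ∈ Finset.range (P.g.natDegree + 1), q.1.evTop (P.g.coeff i) * q.2 ^ i := by
      funext q
      rw [eval_eq_sum_range' (Nat.lt_succ_of_le natDegree_map_le)]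
      simp only [coeff_map]
      rfl
    rw [this]
    exact continuous_finsetSum _ fun i _ =>
      ((continuous_evTop _).comp continuous_fst).mul (continuous_snd.pow i)
  have hev : ∀ (x : Pts X) (p : Γ(Y, ⊤)[X]), x.evTop (aeval P.x p) =
      (p.map (evHom (Pts.map f x) ⊤ (Opens.mem_top _))).eval (x.evTop P.x) := by
    intro x p
    have hh : (evHom x ⊤ (Opens.mem_top _)).comp (algebraMap Γ(Y, ⊤) Γ(X, ⊤)) =
        evHom (Pts.map f x) ⊤ (Opens.mem_top _) := RingHom.ext fun a => (evTop_map f x a).symm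
    rw [eval_map, ← hh]
    exact hom_eval₂ p (algebraMap Γ(Y, ⊤) Γ(X, ⊤)) (evHom x ⊤ (Opens.mem_top _)) P.x
  have hroot : ∀ x, (F (e x).1).eval (e x).2 = 0 := fun x => by
    show (P.f.map _).eval _ = 0
    rw [← hev x, P.hasMap.1]
    exact map_zero (evHom x ⊤ (Opens.mem_top _))
  have hG : ∀ x, (G (e x).1).eval (e x).2 ≠ 0 := fun x => by
    show (P.g.map _).eval _ ≠ 0
    rw [← hev x]
    exact (P.hasMap.2.map (evHom x ⊤ (Opens.mem_top _))).ne_zero
  have hF' : ∀ x, (F (e x).1).derivative.eval (e x).2 ≠ 0 := fun x => by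
    show (P.f.map _).derivative.eval _ ≠ 0
    rw [derivative_map, ← hev x]
    exact (P.hasMap.isUnit_derivative_f.map (evHom x ⊤ (Opens.mem_top _))).ne_zero
  have hec : Continuous e := (Pts.continuous_map f).prodMk (continuous_evTop _)
  have hsolve : ∀ (x : Pts X) (s : Γ(X, ⊤)), ∃ (n : ℕ) (p : Γ(Y, ⊤)[X]),
      x.evTop s * ((G (e x).1).eval (e x).2) ^ n = (p.map (evHom (e x).1 ⊤ (Opens.mem_top _))).eval (e x).2
      ∧ aeval P.x p = s * aeval P.x P.g ^ n := by
    intro x s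
    obtain ⟨p, n, hp⟩ := P.exists_mul_aeval_x_g_pow_eq_aeval_x s
    refine ⟨n, p, ?_, hp.symm⟩
    show _ * ((P.g.map _).eval _) ^ n = _
    rw [← hev x, ← hev x, ← hp, evTop_mul_pow]
  have hinj : Function.Injective e := fun x x' he => ext_of_evTop fun s => by
    obtain ⟨n, p, h1, hp⟩ := hsolve x s
    have h2 : x'.evTop s * ((G (e x').1).eval (e x').2) ^ n
        = (p.map (evHom (e x').1 ⊤ (Opens.mem_top _))).eval (e x').2 := by
      show _ * ((P.g.map _).eval _) ^ n = _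
      rw [← hev x', ← hev x', hp, evTop_mul_pow]
    rw [← he] at h2
    exact mul_right_cancel₀ (pow_ne_zero n (hG x)) (h1.trans h2.symm)
  have hind : IsInducing e := by
    choose p n hp using fun s => P.exists_mul_aeval_x_g_pow_eq_aeval_x s
    let Ψ : Set.range e → (Γ(X, ⊤) → ℂ) := fun q s =>
      ((p s).map (evHom q.1.1 ⊤ (Opens.mem_top _))).eval q.1.2 / ((G q.1.1).eval q.1.2) ^ n s
    have hΨc : Continuous Ψ := by
      refine continuous_pi fun s => Continuous.div ?_ ((hGc.comp continuous_subtype_val).pow _) ?_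
      · have : (fun q : Set.range e => ((p s).map (evHom q.1.1 ⊤ (Opens.mem_top _))).eval q.1.2) =
            fun q => ∑ i ∈ Finset.range ((p s).natDegree + 1), q.1.1.evTop ((p s).coeff i) * q.1.2 ^ i := by
          funext q
          rw [eval_eq_sum_range' (Nat.lt_succ_of_le natDegree_map_le)]
          simp only [coeff_map]
          rfl
        rw [this]
        exact continuous_finsetSum _ fun i _ =>
          ((continuous_evTop _).comp (continuous_fst.comp continuous_subtype_val)).mul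
            ((continuous_snd.comp continuous_subtype_val).pow i)
      · rintro ⟨_, x, rfl⟩
        exact pow_ne_zero _ (hG x)
    have hcomp : (fun (x : Pts X) (s : Γ(X, ⊤)) => x.evTop s) = Ψ ∘ Set.rangeFactorization e := by
      funext x s
      simp only [Function.comp_apply, Ψ, Set.rangeFactorization]
      rw [eq_div_iff (pow_ne_zero _ (hG x))]
      show _ * ((P.g.map _).eval _) ^ n s = _
      rw [← hev x, ← hev x, ← hp, evTop_mul_pow]
    exact IsInducing.subtypeVal.comp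
      (IsInducing.of_comp (hec.subtype_mk _) hΨc (hcomp ▸ isInducing_evTop))
  have hrange : ∀ q : Pts Y × ℂ, (F q.1).eval q.2 = 0 → (G q.1).eval q.2 ≠ 0 → q ∈ Set.range e := by
    rintro ⟨y, t⟩ hf hg
    letI : Algebra Γ(Y, ⊤) ℂ := (evHom y ⊤ (Opens.mem_top _)).toAlgebra
    have hmap : P.P.HasMap t := by
      refine ⟨?_, isUnit_iff_ne_zero.2 ?_⟩
      · rw [aeval_def, ← eval_map]; exact hf
      · rw [aeval_def, ← eval_map]; exact hg
    let φ : Γ(X, ⊤) →ₐ[Γ(Y, ⊤)] ℂ := (P.P.lift t hmap).comp P.equivRing.toAlgHom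
    have hφ : φ.toRingHom.comp (strHom X) = RingHom.id ℂ := RingHom.ext fun c => by
      show φ (strHom X c) = c
      rw [← appTop_strHom f c]
      exact (φ.commutes (strHom Y c)).trans (evTop_strHom y c)
    refine ⟨ofHom φ.toRingHom hφ, Prod.ext (ext_of_evTop fun a => ?_) ?_⟩
    · rw [evTop_map, evTop_ofHom]
      exact φ.commutes a
    · show (ofHom φ.toRingHom hφ).evTop P.x = t
      rw [evTop_ofHom]
      show P.P.lift t hmap (P.equivRing P.x) = t
      rw [StandardEtalePresentation.equivRing_x, StandardEtalePair.lift_X]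
  rw [isLocalHomeomorph_iff_isOpenEmbedding_restrict]
  intro x
  obtain ⟨N, B, r, hN, hxN, hB, hxB, hNB, hr, huniq⟩ := exists_root_family hFm hFd hFc (hroot x)
    (hF' x) (W := {q | (G q.1).eval q.2 ≠ 0}) (isOpen_ne.preimage hGc) (hG x)
  let U : Set (Pts X) := e ⁻¹' (N ×ˢ B)
  have hUo : IsOpen U := (hN.prod hB).preimage hec
  refine ⟨U, hUo.mem_nhds ⟨hxN, hxB⟩, ?_⟩
  have hval : ∀ w : U, (e w.1).2 = r (Pts.map f w.1) := fun w =>
    (huniq _ w.2.1 _).1 ⟨w.2.2, hroot _⟩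
  have hlift : ∀ y ∈ N, (y, r y) ∈ Set.range e := fun y hy => by
    obtain ⟨h1, h2⟩ := (huniq y hy (r y)).2 rfl
    exact hrange _ h2 (hNB ⟨hy, h1⟩)
  have himg : Set.range (U.restrict (Pts.map f)) = N := by
    refine subset_antisymm ?_ fun y hy => ?_
    · rintro _ ⟨w, rfl⟩; exact w.2.1
    · obtain ⟨w, hw⟩ := hlift y hy
      refine ⟨⟨w, ?_⟩, congrArg Prod.fst hw⟩
      show e w ∈ N ×ˢ B
      rw [hw]
      exact ⟨hy, ((huniq y hy (r y)).2 rfl).1⟩
  refine ⟨⟨?_, fun w w' h => ?_⟩, himg ▸ hN⟩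
  · let k : N → Pts Y × ℂ := fun y => ((y : Pts Y), r y)
    have hk : Continuous k := continuous_subtype_val.prodMk hr.restrict
    let pr : U → N := fun w => ⟨Pts.map f w.1, w.2.1⟩
    have h1 : IsInducing (k ∘ pr) := by
      have : k ∘ pr = e ∘ Subtype.val := funext fun w => Prod.ext rfl (hval w).symm
      rw [this]
      exact hind.comp IsInducing.subtypeVal
    exact IsInducing.subtypeVal.comp (IsInducing.of_comp
      (((Pts.continuous_map f).comp continuous_subtype_val).subtype_mk _) hk h1)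
  · refine Subtype.ext (hinj (Prod.ext h ?_))
    rw [hval w, hval w']
    exact congrArg r h

omit [X.Over SC] [Y.Over SC] in
theorem exists_standardEtale_nhd [IsAffine Y] (g : X ⟶ Y) [Etale g] (p : X) :
    ∃ U : X.Opens, IsAffineOpen U ∧ p ∈ U ∧
      @Algebra.IsStandardEtale Γ(Y, ⊤) Γ((U : Scheme.{0}), ⊤) _ _ (U.ι ≫ g).appTop.hom.toAlgebra := by
  obtain ⟨U, hU, hpU, -⟩ := exists_isAffineOpen_mem_and_subset (U := ⊤) (Opens.mem_top p)
  have hUW : U ≤ g ⁻¹ᵁ ⊤ := le_top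
  have het : (g.appLE ⊤ U hUW).hom.Etale :=
    HasRingHomProperty.appLE (P := @Etale) g inferInstance ⟨⊤, isAffineOpen_top Y⟩ ⟨U, hU⟩ hUW
  letI : Algebra Γ(Y, ⊤) Γ(X, U) := (g.appLE ⊤ U hUW).hom.toAlgebra
  have : Algebra.Etale Γ(Y, ⊤) Γ(X, U) := het
  let Q : Ideal Γ(X, U) := (hU.primeIdealOf ⟨p, hpU⟩).asIdeal
  obtain ⟨h, hhQ, hstd⟩ := Algebra.IsEtaleAt.exists_isStandardEtale (R := Γ(Y, ⊤)) Q
  have hle' : X.basicOpen h ≤ g ⁻¹ᵁ ⊤ := le_top
  refine ⟨X.basicOpen h, hU.basicOpen h, ?_, ?_⟩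
  · by_contra hp
    apply hhQ
    have hp' : hU.fromSpec (hU.primeIdealOf ⟨p, hpU⟩) ∉ X.basicOpen h := by
      rw [hU.fromSpec_primeIdealOf]; exact hp
    change hU.primeIdealOf ⟨p, hpU⟩ ∉ hU.fromSpec ⁻¹ᵁ X.basicOpen h at hp'
    rw [hU.fromSpec_preimage_basicOpen] at hp'
    exact not_not.1 hp'
  · letI : Algebra Γ(Y, ⊤) Γ(X, X.basicOpen h) := (g.appLE ⊤ (X.basicOpen h) hle').hom.toAlgebra
    have := hU.isLocalization_basicOpen h
    have : IsScalarTower Γ(Y, ⊤) Γ(X, U) Γ(X, X.basicOpen h) := IsScalarTower.of_algebraMap_eq fun a => by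
      change g.appLE ⊤ (X.basicOpen h) hle' a =
        X.presheaf.map (homOfLE (X.basicOpen_le h)).op (g.appLE ⊤ U hUW a)
      rw [← CommRingCat.comp_apply, Scheme.Hom.appLE_map]
    have : Algebra.IsStandardEtale Γ(Y, ⊤) Γ(X, X.basicOpen h) := Algebra.IsStandardEtale.of_equiv
      ((IsLocalization.algEquiv (Submonoid.powers h) (Localization.Away h)
        Γ(X, X.basicOpen h)).restrictScalars Γ(Y, ⊤))
    letI : Algebra Γ(Y, ⊤) Γ((X.basicOpen h : Scheme.{0}), ⊤) :=
      ((X.basicOpen h).ι ≫ g).appTop.hom.toAlgebra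
    exact Algebra.IsStandardEtale.of_equiv
      (AlgEquiv.ofRingEquiv (f := (X.basicOpen h).topIso.symm.commRingCatIsoToRingEquiv) fun a => by
        show (X.basicOpen h).topIso.inv (g.appLE ⊤ (X.basicOpen h) hle' a) =
          ((X.basicOpen h).ι ≫ g).appTop a
        rw [← CommRingCat.comp_apply]
        congr 2
        simp [Scheme.Opens.topIso, Scheme.Hom.appLE, Scheme.Opens.ι_app]
        refine (Category.assoc _ _ _).trans (congrArg (g.app ⊤ ≫ ·) ?_)
        exact (X.presheaf.map_comp _ _).symm.trans (congrArg X.presheaf.map (Subsingleton.elim _ _)))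

theorem isLocalHomeomorph_of_etale (g : X ⟶ Y) [g.IsOver SC] [Etale g] :
    IsLocalHomeomorph (Pts.map g) := by
  rw [isLocalHomeomorph_iff_isOpenEmbedding_restrict]
  intro x
  obtain ⟨W, hW, hxW, -⟩ := exists_isAffineOpen_mem_and_subset (U := ⊤) (Opens.mem_top (g x.pt))
  have : IsAffine (W : Scheme.{0}) := hW
  let g' : ((g ⁻¹ᵁ W : X.Opens) : Scheme.{0}) ⟶ (W : Scheme.{0}) := g ∣_ W
  obtain ⟨U, hU, hxU, hstd⟩ := exists_standardEtale_nhd g' ⟨x.pt, hxW⟩
  have : IsAffine (U : Scheme.{0}) := hU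
  let q : (U : Scheme.{0}) ⟶ (W : Scheme.{0}) := U.ι ≫ g'
  have hqι : q ≫ W.ι = (U.ι ≫ (g ⁻¹ᵁ W).ι) ≫ g := by
    simp only [q, g', Category.assoc, morphismRestrict_ι]
  have : q.IsOver SC := ⟨by
    show q ≫ W.ι ≫ Y ↘ SC = U.ι ≫ (g ⁻¹ᵁ W).ι ≫ X ↘ SC
    rw [← Category.assoc, hqι, Category.assoc, comp_over, Category.assoc]⟩
  have hq : IsLocalHomeomorph (Pts.map q) := isLocalHomeomorph_of_standardEtale q hstd
  let j : (U : Scheme.{0}) ⟶ X := U.ι ≫ (g ⁻¹ᵁ W).ι
  have : j.IsOver SC := ⟨Category.assoc _ _ _⟩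
  have hj := isOpenEmbedding_map j
  obtain ⟨u, hu⟩ : x ∈ Set.range (Pts.map j) := by
    rw [range_map_of_isImmersion]
    exact ⟨⟨⟨x.pt, hxW⟩, hxU⟩, rfl⟩
  obtain ⟨N, hN, hNe⟩ := (isLocalHomeomorph_iff_isOpenEmbedding_restrict.1 hq) u
  obtain ⟨N', hN'N, hN'o, huN'⟩ := mem_nhds_iff.1 hN
  refine ⟨Pts.map j '' N', (hj.isOpenMap _ hN'o).mem_nhds ⟨u, huN', hu⟩, ?_⟩
  let ψ : N' → Pts.map j '' N' := fun w => ⟨Pts.map j w.1, w.1, w.2, rfl⟩
  have hψ : IsHomeomorph ψ := isHomeomorph_iff_isEmbedding_surjective.2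
    ⟨IsEmbedding.of_comp (((Pts.continuous_map j).comp continuous_subtype_val).subtype_mk _)
      continuous_subtype_val (hj.isEmbedding.comp IsEmbedding.subtypeVal),
      fun ⟨_, w, hw, rfl⟩ => ⟨⟨w, hw⟩, rfl⟩⟩
  have hcomp : (Pts.map j '' N').restrict (Pts.map g) ∘ ψ =
      Pts.map W.ι ∘ N.restrict (Pts.map q) ∘ Set.inclusion hN'N := by
    funext w
    refine Subtype.ext ?_
    show (w.1.1 ≫ j) ≫ g = (w.1.1 ≫ q) ≫ W.ι
    exact (Category.assoc _ _ _).trans ((congrArg (w.1.1 ≫ ·) hqι.symm).trans (Category.assoc _ _ _).symm)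
  have h1 : IsOpenEmbedding ((Pts.map j '' N').restrict (Pts.map g) ∘ ψ) := by
    rw [hcomp]
    exact (isOpenEmbedding_map W.ι).comp (hNe.comp (IsOpenEmbedding.inclusion hN'N (hN'o.preimage continuous_subtype_val)))
  have h2 := h1.comp hψ.homeomorph.symm.isOpenEmbedding
  convert h2 using 1
  funext w
  simp only [Function.comp_apply]
  exact congrArg ((Pts.map j '' N').restrict (Pts.map g)) (hψ.homeomorph.apply_symm_apply w).symm

end Groth.Agent.An92
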