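import Mathlib.Algebra.Homology.DerivedCategory.Ext.ExtClass
import Mathlib.Algebra.Homology.DerivedCategory.Ext.ExactSequences
import Mathlib.Algebra.Homology.DerivedCategory.TStructure
import Mathlib.Algebra.Homology.DerivedCategory.FullyFaithful
import Mathlib.CategoryTheory.Triangulated.TStructure.TruncLTGE

/-!
Every class in the first extension group is the class of a short exact sequence.
-/

set_option autoImplicit false

universe w' w v u

open CategoryTheory CategoryTheory.Abelian CategoryTheory.Limits DerivedCategory Pretriangulated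

namespace Groth.Agent.An92.ExtOne

variable {C : Type u} [Category.{v} C] [Abelian C] [HasExt.{w} C]

/-- Every element of `Ext Q F 1` is the class of a short exact sequence `F → X → Q`. -/
theorem exists_extClass_eq {Q F : C} (x : Ext.{w} Q F 1) :
    ∃ (X : C) (i : F ⟶ X) (q : X ⟶ Q) (hiq : i ≫ q = 0)
      (hS : (ShortComplex.mk i q hiq).ShortExact), hS.extClass = x := by
  let := HasDerivedCategory.standard C
  let δ : (singleFunctor C 0).obj Q ⟶ ((singleFunctor C 0).obj F)⟦(1 : ℤ)⟧ := x.hom
  obtain ⟨Z, f', g', hT⟩ := distinguished_cocone_triangle₂ δ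
  let T := Triangle.mk f' g' δ
  have : Z.IsGE 0 := TStructure.t.isGE₂ T hT 0
    (inferInstanceAs (((singleFunctor C 0).obj F).IsGE 0))
    (inferInstanceAs (((singleFunctor C 0).obj Q).IsGE 0))
  have : Z.IsLE 0 := TStructure.t.isLE₂ T hT 0
    (inferInstanceAs (((singleFunctor C 0).obj F).IsLE 0))
    (inferInstanceAs (((singleFunctor C 0).obj Q).IsLE 0))
  obtain ⟨X, ⟨e⟩⟩ := exists_iso_singleFunctor_obj_of_isGE_of_isLE Z 0
  let i : F ⟶ X := (singleFunctor C 0).preimage (f' ≫ e.hom)
  let q : X ⟶ Q := (singleFunctor C 0).preimage (e.inv ≫ g')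
  let T' := Triangle.mk ((singleFunctor C 0).map i) ((singleFunctor C 0).map q) δ
  have hT' : T' ∈ distTriang (DerivedCategory C) :=
    isomorphic_distinguished _ hT _ (Triangle.isoMk _ _ (Iso.refl _) e.symm (Iso.refl _)
      (by change (singleFunctor C 0).map i ≫ e.inv = 𝟙 ((singleFunctor C 0).obj F) ≫ f'
          simp [i])
      (by change (singleFunctor C 0).map q ≫ 𝟙 ((singleFunctor C 0).obj Q) = e.inv ≫ g'
          simp [q])
      (by change δ ≫ (shiftFunctor (DerivedCategory C) (1 : ℤ)).map (𝟙 ((singleFunctor C 0).obj F)) =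
            𝟙 ((singleFunctor C 0).obj Q) ≫ δ
          simp))
  have hiq : i ≫ q = 0 := (singleFunctor C 0).map_injective (by
    rw [Functor.map_comp, Functor.map_zero]
    exact comp_distTriang_mor_zero₁₂ _ hT')
  have h1 : Mono ((homologyFunctor C 0).map T'.mor₁) := by
    rw [HomologySequence.mono_homologyMap_mor₁_iff T' hT' (-1) 0]
    exact (DerivedCategory.isZero_of_isGE ((singleFunctor C 0).obj Q) 0 (-1) (by omega)).eq_of_src _ _
  have h3 : Epi ((homologyFunctor C 0).map T'.mor₂) := by
    rw [HomologySequence.epi_homologyMap_mor₂_iff T' hT' 0 1]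
    exact (DerivedCategory.isZero_of_isLE ((singleFunctor C 0).obj F) 0 1 (by omega)).eq_of_tgt _ _
  have hS : (ShortComplex.mk i q hiq).ShortExact := by
    let φ := singleFunctorCompHomologyFunctorIso C 0
    have hH : (ShortComplex.mk ((homologyFunctor C 0).map ((singleFunctor C 0).map i))
        ((homologyFunctor C 0).map ((singleFunctor C 0).map q))
        (by rw [← Functor.map_comp, ← Functor.map_comp, hiq, Functor.map_zero, Functor.map_zero])).ShortExact :=
      { exact := HomologySequence.exact₂ T' hT' 0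
        mono_f := h1
        epi_g := h3 }
    exact ShortComplex.shortExact_of_iso (ShortComplex.isoMk (φ.app F) (φ.app X) (φ.app Q)
      (φ.hom.naturality i).symm (φ.hom.naturality q).symm) hH
  refine ⟨X, i, q, hiq, hS, ?_⟩
  ext
  rw [ShortComplex.ShortExact.extClass_hom]
  obtain ⟨γ, hγ₁, hγ₂⟩ := complete_distinguished_triangle_morphism hS.singleTriangle T'
    hS.singleTriangle_distinguished hT' (𝟙 _) (𝟙 _)
    (by exact (Category.comp_id _).trans (Category.id_comp _).symm)
  have hγ : γ = 𝟙 _ := by
    obtain ⟨c, rfl⟩ := (singleFunctor C 0).map_surjective γ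
    have hc : q ≫ c = q := (singleFunctor C 0).map_injective (by
      rw [Functor.map_comp]
      exact hγ₁.trans (Category.id_comp _))
    have := hS.epi_g
    rw [show c = 𝟙 _ from (cancel_epi q).1 (hc.trans (Category.comp_id q).symm)]
    exact CategoryTheory.Functor.map_id _ _
  rw [hγ] at hγ₂
  replace hγ₂ : hS.singleδ ≫ (shiftFunctor (DerivedCategory C) (1 : ℤ)).map
      (𝟙 ((singleFunctor C 0).obj F)) = 𝟙 ((singleFunctor C 0).obj Q) ≫ δ := hγ₂
  simpa using hγ₂

end Groth.Agent.An92.ExtOne
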