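import Groth.Agent.An92.Etale
import Groth.Agent.An92.Maps
import Mathlib.AlgebraicGeometry.Morphisms.Finite
import Mathlib.Topology.Covering.Basic
import Mathlib.Topology.Maps.Proper.Basic

/-!
Integral morphisms give proper maps on complex points; finite etale ones give coverings.
-/

set_option autoImplicit false

noncomputable section

open AlgebraicGeometry CategoryTheory TopologicalSpace Topology Filter Polynomial

namespace Groth.Agent.An92

open An An.Pts

variable {X Y : Scheme.{0}} [X.Over SC] [Y.Over SC]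

theorem t2Space_of_isAffine [IsAffine X] : T2Space (Pts X) :=
  IsEmbedding.t2Space (f := fun (x : Pts X) (a : Γ(X, ⊤)) => x.evTop a)
    ⟨isInducing_evTop, fun _ _ h => ext_of_evTop fun a => congrFun h a⟩

theorem exists_limit_affine [IsAffine X] [IsAffine Y] (f : X ⟶ Y) [f.IsOver SC]
    (hf : f.appTop.hom.IsIntegral) (u : Ultrafilter (Pts X)) (y : Pts Y)
    (hu : Tendsto (Pts.map f) u (𝓝 y)) : ∃ x, Pts.map f x = y ∧ (u : Filter (Pts X)) ≤ 𝓝 x := by
  have hval : ∀ a : Γ(X, ⊤), ∃ z : ℂ, Tendsto (fun x : Pts X => x.evTop a) u (𝓝 z) := by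
    intro a
    obtain ⟨P, hP, hPa⟩ := hf a
    have hc : Continuous fun w : Pts Y => 1 + ∑ j ∈ Finset.range P.natDegree, ‖w.evTop (P.coeff j)‖ :=
      continuous_const.add (continuous_finsetSum _ fun j _ => (continuous_evTop _).norm)
    have hlt : ∀ᶠ x in (u : Filter (Pts X)),
        (1 + ∑ j ∈ Finset.range P.natDegree, ‖(Pts.map f x).evTop (P.coeff j)‖) <
          (1 + ∑ j ∈ Finset.range P.natDegree, ‖y.evTop (P.coeff j)‖) + 1 :=
      ((hc.tendsto y).comp hu).eventually (Iio_mem_nhds (lt_add_one _))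
    set B := (1 + ∑ j ∈ Finset.range P.natDegree, ‖y.evTop (P.coeff j)‖) + 1
    have hmem : ∀ᶠ x in (u : Filter (Pts X)), x.evTop a ∈ Metric.closedBall (0 : ℂ) B := by
      refine hlt.mono fun x hx => ?_
      rw [mem_closedBall_zero_iff]
      refine le_trans ?_ hx.le
      have hh : (evHom x ⊤ (Opens.mem_top _)).comp f.appTop.hom =
          evHom (Pts.map f x) ⊤ (Opens.mem_top _) := RingHom.ext fun b => (evTop_map f x b).symm
      have h1 : (P.map (evHom (Pts.map f x) ⊤ (Opens.mem_top _))).eval (x.evTop a) = 0 := by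
        rw [eval_map, ← hh]
        refine (hom_eval₂ P f.appTop.hom (evHom x ⊤ (Opens.mem_top _)) a).symm.trans ?_
        rw [hPa, map_zero]
      have h2 := norm_le_of_isRoot _ (hP.map _) _ h1
      rw [hP.natDegree_map] at h2
      simp only [coeff_map] at h2
      exact h2
    obtain ⟨z, -, hz⟩ := (isCompact_closedBall (0 : ℂ) B).ultrafilter_le_nhds
      (u.map fun x : Pts X => x.evTop a) (le_principal_iff.2 hmem)
    exact ⟨z, hz⟩
  choose z hz using hval
  have huniq : ∀ {a : Γ(X, ⊤)} {w : ℂ}, Tendsto (fun x : Pts X => x.evTop a) u (𝓝 w) → z a = w :=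
    fun h => tendsto_nhds_unique (hz _) h
  let φ : Γ(X, ⊤) →+* ℂ :=
    { toFun := z
      map_one' := huniq (tendsto_const_nhds.congr fun x => (map_one (evHom x ⊤ (Opens.mem_top _))).symm)
      map_mul' := fun a b => huniq (((hz a).mul (hz b)).congr fun x =>
        (map_mul (evHom x ⊤ (Opens.mem_top _)) a b).symm)
      map_zero' := huniq (tendsto_const_nhds.congr fun x => (map_zero (evHom x ⊤ (Opens.mem_top _))).symm)
      map_add' := fun a b => huniq (((hz a).add (hz b)).congr fun x =>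
        (map_add (evHom x ⊤ (Opens.mem_top _)) a b).symm) }
  have hφ : φ.comp (strHom X) = RingHom.id ℂ :=
    RingHom.ext fun c => huniq (tendsto_const_nhds.congr fun x => (evTop_strHom x c).symm)
  refine ⟨ofHom φ hφ, ext_of_evTop fun b => ?_, ?_⟩
  · rw [evTop_map, evTop_ofHom]
    exact huniq ((((continuous_evTop b).tendsto y).comp hu).congr fun x => evTop_map f x b)
  · rw [isInducing_evTop.nhds_eq_comap, ← map_le_iff_le_comap]
    refine tendsto_pi_nhds.2 fun a => ?_
    rw [evTop_ofHom]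
    exact hz a

/-- Restricting over an open of the target. -/
theorem restrict_isOver (g : X ⟶ Y) [g.IsOver SC] (W : Y.Opens) : (g ∣_ W).IsOver SC := ⟨by
  show (g ∣_ W) ≫ W.ι ≫ Y ↘ SC = (g ⁻¹ᵁ W).ι ≫ X ↘ SC
  rw [morphismRestrict_ι_assoc, comp_over]⟩

theorem map_restrict (g : X ⟶ Y) [g.IsOver SC] (W : Y.Opens) [(g ∣_ W).IsOver SC]
    (x : Pts ((g ⁻¹ᵁ W : X.Opens) : Scheme.{0})) :
    Pts.map W.ι (Pts.map (g ∣_ W) x) = Pts.map g (Pts.map (g ⁻¹ᵁ W).ι x) := by
  refine Subtype.ext ?_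
  show (x.1 ≫ (g ∣_ W)) ≫ W.ι = (x.1 ≫ (g ⁻¹ᵁ W).ι) ≫ g
  exact (Category.assoc _ _ _).trans
    ((congrArg (x.1 ≫ ·) (morphismRestrict_ι g W)).trans (Category.assoc _ _ _).symm)

theorem isProperMap_of_isIntegralHom (g : X ⟶ Y) [g.IsOver SC] [IsIntegralHom g] :
    IsProperMap (Pts.map g) := by
  rw [isProperMap_iff_ultrafilter]
  refine ⟨Pts.continuous_map g, fun u y hu => ?_⟩
  obtain ⟨W, hW, hyW, -⟩ := exists_isAffineOpen_mem_and_subset (U := ⊤) (Opens.mem_top y.pt)
  have hW' : IsAffineOpen (g ⁻¹ᵁ W) := hW.preimage g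
  have : IsAffine (W : Scheme.{0}) := hW
  have : IsAffine ((g ⁻¹ᵁ W : X.Opens) : Scheme.{0}) := hW'
  have := restrict_isOver g W
  have hrange : Set.range (Pts.map (g ⁻¹ᵁ W).ι) ∈ u := by
    rw [range_map_opensι]
    filter_upwards [hu ((Pts.isOpen_preimage_pt W).mem_nhds hyW)] with x hx
    show g x.pt ∈ W
    rw [← Pts.pt_map]
    exact hx
  obtain ⟨y', rfl⟩ : y ∈ Set.range (Pts.map W.ι) := by rw [range_map_opensι]; exact hyW
  let u' := u.comap (map_injective_of_isImmersion (g ⁻¹ᵁ W).ι) hrange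
  have hu' : Tendsto (Pts.map (g ∣_ W)) u' (𝓝 y') := by
    rw [(isOpenEmbedding_map W.ι).isEmbedding.nhds_eq_comap, tendsto_comap_iff]
    have : Pts.map W.ι ∘ Pts.map (g ∣_ W) = Pts.map g ∘ Pts.map (g ⁻¹ᵁ W).ι :=
      funext fun x => map_restrict g W x
    rw [this, Ultrafilter.coe_comap]
    exact hu.comp tendsto_comap
  have : IsIntegralHom (g ∣_ W) := MorphismProperty.of_isPullback (P := @IsIntegralHom) (isPullback_morphismRestrict g W).flip inferInstance
  have hint : (g ∣_ W).appTop.hom.IsIntegral := (g ∣_ W).isIntegral_app ⊤ (isAffineOpen_top _)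
  obtain ⟨x, hx, hle⟩ := exists_limit_affine (g ∣_ W) hint u' y' hu'
  refine ⟨Pts.map (g ⁻¹ᵁ W).ι x, by rw [← map_restrict, hx], ?_⟩
  calc (u : Filter (Pts X)) = Filter.map (Pts.map (g ⁻¹ᵁ W).ι) u' := by
        rw [Ultrafilter.coe_comap, map_comap_of_mem hrange]
    _ ≤ Filter.map (Pts.map (g ⁻¹ᵁ W).ι) (𝓝 x) := map_mono hle
    _ ≤ 𝓝 _ := (Pts.continuous_map _).tendsto x

theorem isCoveringMap_of_finite_etale (g : X ⟶ Y) [g.IsOver SC] [IsFinite g] [Etale g] :
    IsCoveringMap (Pts.map g) ∧ ∀ y, (Pts.map g ⁻¹' {y}).Finite := by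
  have hproper := isProperMap_of_isIntegralHom g
  have hlocal := isLocalHomeomorph_of_etale g
  have hfin : ∀ y, (Pts.map g ⁻¹' {y}).Finite := by
    intro y
    refine (hproper.isCompact_preimage isCompact_singleton).finite
      (.of_openPartialHomeomorph (Pts.map g) subset_rfl fun e _ => ?_)
    obtain ⟨φ, hφ, h⟩ := hlocal e
    exact ⟨φ, hφ, h.symm⟩
  refine ⟨isCoveringMap_iff_isCoveringMapOn_univ.2 fun y _ => ?_, hfin⟩
  obtain ⟨W, hW, hyW, -⟩ := exists_isAffineOpen_mem_and_subset (U := ⊤) (Opens.mem_top y.pt)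
  have hW' : IsAffineOpen (g ⁻¹ᵁ W) := hW.preimage g
  have : IsAffine ((g ⁻¹ᵁ W : X.Opens) : Scheme.{0}) := hW'
  have := t2Space_of_isAffine (X := ((g ⁻¹ᵁ W : X.Opens) : Scheme.{0}))
  let s : Set (Pts Y) := Pts.pt ⁻¹' (W : Set Y)
  have hs : IsOpen s := Pts.isOpen_preimage_pt W
  have he : Set.range (Pts.map (g ⁻¹ᵁ W).ι) = Pts.map g ⁻¹' s := by
    rw [range_map_opensι]
    ext x
    simp [s, Pts.pt_map]
  let ε : Pts ((g ⁻¹ᵁ W : X.Opens) : Scheme.{0}) ≃ₜ Pts.map g ⁻¹' s :=
    (isOpenEmbedding_map (g ⁻¹ᵁ W).ι).isEmbedding.toHomeomorph.trans (Homeomorph.setCongr he)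
  have hc1 : IsCoveringMap (s.restrictPreimage (Pts.map g) ∘ ε) := by
    have h1 : IsProperMap (s.restrictPreimage (Pts.map g)) := hproper.restrictPreimage s
    have h2 : IsLocalHomeomorph (s.restrictPreimage (Pts.map g) ∘ ε) := by
      have : Subtype.val ∘ (s.restrictPreimage (Pts.map g) ∘ ε) =
          Pts.map g ∘ Pts.map (g ⁻¹ᵁ W).ι := rfl
      have h3 : IsLocalHomeomorph (Subtype.val ∘ (s.restrictPreimage (Pts.map g) ∘ ε)) :=
        this ▸ hlocal.comp (isOpenEmbedding_map _).isLocalHomeomorph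
      exact IsLocalHomeomorph.of_comp h3 hs.isOpenEmbedding_subtypeVal.isLocalHomeomorph
        ((h1.continuous).comp ε.continuous)
    refine isCoveringMap_iff_isCoveringMapOn_univ.2
      ((h1.isClosedMap.comp ε.isClosedMap).isCoveringMapOn_of_isLocalHomeomorphOn
        (fun q _ => ?_) (fun x _ => h2 x))
    rw [Set.preimage_comp]
    refine Set.Finite.preimage ε.injective.injOn ?_
    refine Set.Finite.of_finite_image (f := Subtype.val) ((hfin q.1).subset ?_) Subtype.val_injective.injOn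
    rintro _ ⟨w, hw, rfl⟩
    exact congrArg Subtype.val hw
  have hc2 : IsCoveringMap (s.restrictPreimage (Pts.map g)) :=
    (IsCoveringMap.comp_homeomorph_iff ε).1 hc1
  exact (IsCoveringMapOn.of_isCoveringMap_restrictPreimage _ hs
    (hs.preimage (Pts.continuous_map g)) hc2) y hyW

end Groth.Agent.An92
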