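import Groth.Agent.An92.Immersion
import Mathlib.AlgebraicGeometry.Morphisms.Flat
import Mathlib.Topology.JacobsonSpace

/-!
Flatness of a morphism is detected at the complex points.
-/

set_option autoImplicit false

noncomputable section

open AlgebraicGeometry CategoryTheory TopologicalSpace Topology

namespace Groth.Agent.An92

open An An.Pts

variable {X Y : Scheme.{0}} [X.Over SC] [LocallyOfFiniteType (X ↘ SC)]

theorem exists_pt_fromSpec {V : X.Opens} (hV : IsAffineOpen V) (P : Ideal Γ(X, V)) [hP : P.IsMaximal] :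
    ∃ x : Pts X, x.pt = hV.fromSpec ⟨P, hP.isPrime⟩ := by
  have := jacobsonSpace (X := X)
  refine exists_pt_eq (isClosed_singleton_of_isLocallyClosed_singleton ?_)
  have h : IsClosed ({⟨P, hP.isPrime⟩} : Set (Spec Γ(X, V))) :=
    (PrimeSpectrum.isClosed_singleton_iff_isMaximal _).2 hP
  exact Set.image_singleton (f := hV.fromSpec) ▸ h.isLocallyClosed.image hV.fromSpec.isOpenEmbedding.isInducing
    hV.fromSpec.isOpenEmbedding.isOpen_range.isLocallyClosed

theorem flat_of_forall_pts (f : X ⟶ Y) (H : ∀ x : Pts X, (f.stalkMap x.pt).hom.Flat) : Flat f := by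
  rw [flat_iff]
  intro U hU V hV e
  algebraize_only [(f.appLE U V e).hom]
  rw [RingHom.Flat]
  refine Module.flat_of_isLocalized_maximal Γ(X, V) Γ(X, V) (fun P _ => Localization.AtPrime P)
    (fun P _ => Algebra.linearMap Γ(X, V) _) fun P hP => ?_
  obtain ⟨x, hx⟩ := exists_pt_fromSpec hV P
  set p := hV.fromSpec ⟨P, hP.isPrime⟩
  have hmem : p ∈ V := hV.range_fromSpec.le ⟨_, rfl⟩
  have hp : (f.stalkMap p).hom.Flat := by
    have := H x
    rwa [hx] at this
  have hU' : (Y.presheaf.germ U (f p) (e hmem)).hom.Flat := by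
    have := hU.isLocalization_stalk ⟨f p, e hmem⟩
    let := Y.presheaf.algebra_section_stalk (⟨f p, e hmem⟩ : U)
    exact RingHom.flat_algebraMap_iff.2
      (IsLocalization.flat (Y.presheaf.stalk (f p)) (hU.primeIdealOf ⟨f p, e hmem⟩).asIdeal.primeCompl)
  have hc : (X.presheaf.germ V p hmem).hom.comp (f.appLE U V e).hom =
      (f.stalkMap p).hom.comp (Y.presheaf.germ U (f p) (e hmem)).hom := by
    rw [← CommRingCat.hom_comp, ← CommRingCat.hom_comp]
    refine congrArg CommRingCat.Hom.hom (Eq.trans ?_ (Scheme.Hom.germ_stalkMap f U p (e hmem)).symm)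
    rw [Scheme.Hom.appLE, Category.assoc, TopCat.Presheaf.germ_res]
  have hflat := hU'.comp hp
  rw [← hc] at hflat
  let : Algebra Γ(X, V) (X.presheaf.stalk p) := (X.presheaf.germ V p hmem).hom.toAlgebra
  have : IsLocalization.AtPrime (X.presheaf.stalk p) P := hV.isLocalization_stalk' ⟨P, hP.isPrime⟩ hmem
  let ε := IsLocalization.algEquiv P.primeCompl (X.presheaf.stalk p) (Localization.AtPrime P)
  refine RingHom.flat_algebraMap_iff.1 ?_
  have hcomp : algebraMap Γ(Y, U) (Localization.AtPrime P) =
      ε.toRingEquiv.toRingHom.comp ((X.presheaf.germ V p hmem).hom.comp (f.appLE U V e).hom) := by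
    ext a
    rw [IsScalarTower.algebraMap_apply Γ(Y, U) Γ(X, V) (Localization.AtPrime P)]
    exact (ε.commutes _).symm
  rw [hcomp]
  exact hflat.comp (.of_bijective ε.bijective)

end Groth.Agent.An92
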