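import Groth.Agent.An92.Germ.Stalk
import Groth.Agent.Hens22.EtaleNearPoint

/-!
Unramified morphisms between schemes of finite type over `ℂ` at the complex points.
-/

set_option autoImplicit false

noncomputable section

open AlgebraicGeometry CategoryTheory TopologicalSpace Topology IsLocalRing

namespace Groth.Agent.An92

open An An.Pts

variable {X Y : Scheme.{0}} [X.Over SC] [Y.Over SC] (f : X ⟶ Y) [f.IsOver SC]

theorem exists_stalkMap_sub_mem (x : Pts X) (a : X.presheaf.stalk x.pt) :
    ∃ b, (f.stalkMap x.pt).hom b - a ∈ maximalIdeal (X.presheaf.stalk x.pt) := by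
  obtain ⟨U, hU, g, rfl⟩ := X.presheaf.exists_germ_eq a
  have hy : (Pts.map f x).pt ∈ (⊤ : Y.Opens) := trivial
  refine ⟨Y.presheaf.germ ⊤ (f x.pt) trivial (strHom Y (x.ev U hU g)), ?_⟩
  rw [show (f.stalkMap x.pt).hom (Y.presheaf.germ ⊤ (f x.pt) trivial (strHom Y (x.ev U hU g))) =
    X.presheaf.germ U x.pt hU (strHomU U (x.ev U hU g)) from ?_, ← map_sub]
  · rw [mem_maximalIdeal_stalk, ← evHom_apply, map_sub, evHom_apply, evHom_apply, ev_strHomU, sub_self]
  · refine (congrArg (fun k => (CommRingCat.Hom.hom k) (strHom Y (x.ev U hU g)))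
      (Scheme.Hom.germ_stalkMap f ⊤ x.pt trivial)).trans ?_
    show X.presheaf.germ (f ⁻¹ᵁ ⊤) x.pt trivial (f.appTop (strHom Y (x.ev U hU g))) = _
    rw [appTop_strHom']
    exact (TopCat.Presheaf.germ_res_apply X.presheaf (homOfLE le_top) x.pt hU _).symm

theorem finite_separable_residueField (x : Pts X) :
    letI := (f.residueFieldMap x.pt).hom.toAlgebra
    Module.Finite (Y.residueField (f x.pt)) (X.residueField x.pt) ∧
      Algebra.IsSeparable (Y.residueField (f x.pt)) (X.residueField x.pt) := by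
  let := (f.residueFieldMap x.pt).hom.toAlgebra
  have hs : Function.Surjective (algebraMap (Y.residueField (f x.pt)) (X.residueField x.pt)) := by
    intro z
    obtain ⟨a, rfl⟩ := IsLocalRing.residue_surjective z
    obtain ⟨b, hb⟩ := exists_stalkMap_sub_mem f x a
    exact ⟨IsLocalRing.residue _ b, Ideal.Quotient.eq.2 hb⟩
  refine ⟨Module.Finite.of_surjective (Algebra.linearMap _ _) hs, ⟨fun z => ?_⟩⟩
  obtain ⟨y, rfl⟩ := hs z
  exact isSeparable_algebraMap y

variable [LocallyOfFiniteType (X ↘ SC)]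

theorem formallyUnramified_iff_pts :
    FormallyUnramified f ↔ ∀ x : Pts X, (maximalIdeal (Y.presheaf.stalk (f x.pt))).map (f.stalkMap x.pt).hom =
      maximalIdeal (X.presheaf.stalk x.pt) := by
  have hlft : LocallyOfFiniteType f := by
    have : LocallyOfFiniteType (f ≫ Y ↘ SC) := by rw [comp_over]; infer_instance
    exact locallyOfFiniteType_of_comp f (Y ↘ SC)
  refine ⟨fun _ x => ((Hens22.formallyUnramified_stalkMap_iff f x.pt).1 (FormallyUnramified.stalkMap f x.pt)).1,
    fun h => ?_⟩
  choose U hxU hU using fun x : Pts X => Hens22.exists_formallyUnramified_of_stalkMap f x.pt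
    ((Hens22.formallyUnramified_stalkMap_iff f x.pt).2 ⟨h x, finite_separable_residueField f x⟩)
  have htop : ⨆ x, U x = ⊤ := by
    by_contra hne
    obtain ⟨x, hx⟩ := exists_pt_mem (X := X) (S := ((⨆ x, U x : X.Opens) : Set X)ᶜ)
      (⨆ x, U x).2.isClosed_compl.isLocallyClosed
      (Set.nonempty_compl.2 fun h' => hne (Opens.ext h'))
    exact hx (Opens.mem_iSup.2 ⟨x, hxU x⟩)
  have : IsZariskiLocalAtSource (@FormallyUnramified : MorphismProperty Scheme.{0}) :=
    HasRingHomProperty.instIsZariskiLocalAtSource (Q := fun {R S} _ _ => RingHom.FormallyUnramified)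
  rw [IsZariskiLocalAtSource.iff_of_iSup_eq_top (P := @FormallyUnramified) U htop]
  exact hU

end Groth.Agent.An92
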