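import Groth.Agent.An92.Basic
import Mathlib.AlgebraicGeometry.Morphisms.Immersion
import Mathlib.AlgebraicGeometry.PullbackCarrier
import Mathlib.AlgebraicGeometry.AlgClosed.Basic
import Mathlib.Analysis.Complex.Polynomial.Basic

/-!
Complex points and immersions; complex points of schemes locally of finite type are the closed
points.
-/

set_option autoImplicit false

noncomputable section

open AlgebraicGeometry CategoryTheory CategoryTheory.Limits TopologicalSpace Topology

namespace Groth.Agent.An92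

open An An.Pts

variable {X Y : Scheme.{0}} [X.Over SC] [Y.Over SC]

theorem map_injective_of_mono (g : X ⟶ Y) [g.IsOver SC] [Mono g] :
    Function.Injective (Pts.map g) := fun x y h =>
  Subtype.ext ((cancel_mono g).1 (congrArg Subtype.val h))

theorem map_injective_of_isImmersion (g : X ⟶ Y) [g.IsOver SC] [IsImmersion g] :
    Function.Injective (Pts.map g) := map_injective_of_mono g

theorem range_map_of_isImmersion (g : X ⟶ Y) [g.IsOver SC] [IsImmersion g] :
    Set.range (Pts.map g) = Pts.pt ⁻¹' Set.range g := by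
  refine subset_antisymm ?_ fun y hy => ?_
  · rintro _ ⟨x, rfl⟩
    exact ⟨x.pt, (Pts.pt_map g x).symm⟩
  · obtain ⟨a, ha⟩ := hy
    let q := pullback.fst y.1 g
    have hsurj : Surjective q := by
      refine ⟨fun p => ?_⟩
      obtain ⟨z, hz, -⟩ := Scheme.Pullback.exists_preimage_pullback (f := y.1) (g := g) p a
        (by rw [eq_cpt p]; exact ha.symm)
      exact ⟨z, hz⟩
    have hcl : IsClosedImmersion q := by
      have : IsClosed (Set.range q) := by
        rw [Set.range_eq_univ.2 hsurj.surj]; exact isClosed_univ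
      exact IsClosedImmersion.of_isPreimmersion q this
    have : IsReduced SC := inferInstance
    have : IsIso q := isIso_of_isClosedImmersion_of_surjective q
    have hfac : (inv q ≫ pullback.snd y.1 g) ≫ g = y.1 := by
      rw [Category.assoc, ← pullback.condition]
      simp [q]
    refine ⟨⟨inv q ≫ pullback.snd y.1 g, ?_⟩, Subtype.ext hfac⟩
    rw [← comp_over g, ← Category.assoc, hfac, y.2]

theorem isInducing_map_of_isImmersion (g : X ⟶ Y) [g.IsOver SC] [IsImmersion g] :
    IsInducing (Pts.map g) := by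
  refine isInducing_map g fun x W hxW f => ?_
  obtain ⟨S, hS, hSW⟩ := g.isEmbedding.isInducing.isOpen_iff.1 W.2
  let W' : Y.Opens := ⟨S, hS⟩ ⊓ g.coborderRange
  have hmem : g x.pt ∈ W' := ⟨by
    have : x.pt ∈ g ⁻¹' S := hSW.symm ▸ hxW
    exact this, subset_coborder ⟨x.pt, rfl⟩⟩
  obtain ⟨U, hU, hxU, hUW⟩ := exists_isAffineOpen_mem_and_subset hmem
  have hle : g ⁻¹ᵁ U ≤ W := fun z hz => by
    have : z ∈ g ⁻¹' S := (hUW hz).1
    rwa [hSW] at this
  have hUc : U ≤ g.coborderRange := fun z hz => (hUW hz).2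
  have himg : g.coborderRange.ι ''ᵁ (g.coborderRange.ι ⁻¹ᵁ U) = U := by
    rw [Scheme.Hom.image_preimage_eq_opensRange_inf, Scheme.Opens.opensRange_ι, inf_eq_right.2 hUc]
  have haff : IsAffineOpen (g.coborderRange.ι ⁻¹ᵁ U) := by
    rw [← g.coborderRange.ι.isAffineOpen_iff_of_isOpenImmersion, himg]; exact hU
  have hs := g.liftCoborder.app_surjective _ haff
  rw [liftCoborder_app] at hs
  have hsurj : Function.Surjective (g.app U) := by
    suffices ∀ U', U' = U → Function.Surjective (g.app U') →  Function.Surjective (g.app U) from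
      this _ himg (by
        intro t
        obtain ⟨u, hu⟩ := hs ((X.presheaf.map (eqToHom (g.liftCoborder_preimage _)).op) t)
        refine ⟨u, (ConcreteCategory.bijective_of_isIso (X.presheaf.map
          (eqToHom (g.liftCoborder_preimage _)).op)).1 ?_⟩
        exact hu)
    rintro _ rfl h
    exact h
  obtain ⟨a, ha⟩ := hsurj (X.presheaf.map (homOfLE hle).op f)
  exact ⟨U, hle, a, by rw [Pts.pt_map]; exact hxU, ha⟩

theorem isEmbedding_map_of_isImmersion (g : X ⟶ Y) [g.IsOver SC] [IsImmersion g] :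
    IsEmbedding (Pts.map g) :=
  ⟨isInducing_map_of_isImmersion g, map_injective_of_isImmersion g⟩

theorem isClosedEmbedding_map (g : X ⟶ Y) [g.IsOver SC] [IsClosedImmersion g] :
    IsClosedEmbedding (Pts.map g) :=
  ⟨isEmbedding_map_of_isImmersion g,
    range_map_of_isImmersion g ▸ (g.isClosedEmbedding.isClosed_range.preimage Pts.continuous_pt)⟩

theorem isOpenEmbedding_map (g : X ⟶ Y) [g.IsOver SC] [IsOpenImmersion g] :
    IsOpenEmbedding (Pts.map g) :=
  ⟨isEmbedding_map_of_isImmersion g,
    range_map_of_isImmersion g ▸ (g.isOpenEmbedding.isOpen_range.preimage Pts.continuous_pt)⟩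

/-- An open subscheme of a scheme over `ℂ`. -/
instance opensOver (U : X.Opens) : (U : Scheme.{0}).Over SC := ⟨U.ι ≫ X ↘ SC⟩

instance opensιOver (U : X.Opens) : U.ι.IsOver SC := ⟨rfl⟩

instance opensLocallyOfFiniteType [LocallyOfFiniteType (X ↘ SC)] (U : X.Opens) :
    LocallyOfFiniteType ((U : Scheme.{0}) ↘ SC) :=
  inferInstanceAs (LocallyOfFiniteType (U.ι ≫ X ↘ SC))

theorem range_map_opensι (U : X.Opens) : Set.range (Pts.map U.ι) = Pts.pt ⁻¹' (U : Set X) := by
  rw [range_map_of_isImmersion, Scheme.Opens.range_ι]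

section LocallyOfFiniteType

variable [LocallyOfFiniteType (X ↘ SC)]

theorem coe_pointEquivClosedPoint (x : Pts X) :
    (pointEquivClosedPoint (X ↘ SC) x : X) = x.pt :=
  congrArg x.1 (eq_cpt _)

theorem isClosed_pt (x : Pts X) : IsClosed ({x.pt} : Set X) :=
  coe_pointEquivClosedPoint x ▸ (pointEquivClosedPoint (X ↘ SC) x).2

theorem exists_pt_eq {p : X} (hp : IsClosed ({p} : Set X)) : ∃ x : Pts X, x.pt = p :=
  ⟨(pointEquivClosedPoint (X ↘ SC)).symm ⟨p, hp⟩, pointOfClosedPoint_apply (X ↘ SC) p hp _⟩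

theorem range_pt : Set.range (Pts.pt : Pts X → X) = closedPoints X :=
  Set.ext fun _ => ⟨fun ⟨x, hx⟩ => hx ▸ isClosed_pt x, fun h => exists_pt_eq h⟩

theorem pt_injective : Function.Injective (Pts.pt : Pts X → X) := fun x y h =>
  (pointEquivClosedPoint (X ↘ SC)).injective
    (Subtype.ext (by rw [coe_pointEquivClosedPoint, coe_pointEquivClosedPoint, h]))

variable (X) in
theorem jacobsonSpace : JacobsonSpace X := LocallyOfFiniteType.jacobsonSpace (X ↘ SC)

/-- A nonempty locally closed subset contains a complex point. -/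
theorem exists_pt_mem {S : Set X} (hS : IsLocallyClosed S) (hne : S.Nonempty) :
    ∃ x : Pts X, x.pt ∈ S := by
  have := jacobsonSpace X
  obtain ⟨p, hpS, hp⟩ := nonempty_inter_closedPoints hne hS
  obtain ⟨x, rfl⟩ := exists_pt_eq hp
  exact ⟨x, hpS⟩

end LocallyOfFiniteType

end Groth.Agent.An92
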