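import Groth.Agent.An92.Germ.Etale
import Groth.Agent.Sga84.Epi
import Groth.Agent.An92.Affine

/-!
A morphism is an isomorphism iff its analytification is.
-/

set_option autoImplicit false

noncomputable section

open AlgebraicGeometry CategoryTheory TopologicalSpace Filter Topology Limits

namespace Groth.Agent.An92

open An An.Pts

variable {X Y : Scheme.{0}} [X.Over SC] [Y.Over SC] (f : X ⟶ Y) [f.IsOver SC]

theorem bijective_anMapStalk_of_homeomorph (e : Pts X ≃ₜ Pts Y) (he : ⇑e = Pts.map f)
    (hinv : IsHolMap (⟨e.symm, e.symm.continuous⟩ : C(Pts Y, Pts X))) (x : Pts X) :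
    Function.Bijective (anMapStalk f x) := by
  have hmap : Filter.map (Pts.map f) (𝓝 x) = 𝓝 (Pts.map f x) := he ▸ e.map_nhds_eq x
  refine ⟨fun a b h => toGerm_injective _ ?_, fun a => ?_⟩
  · have h' := congrArg (toGerm x) h
    rw [toGerm_anMapStalk, toGerm_anMapStalk] at h'
    revert h'
    induction toGerm (Pts.map f x) a using Germ.inductionOn with
    | h F => induction toGerm (Pts.map f x) b using Germ.inductionOn with
      | h G =>
        intro h'
        have h'' : F ∘ Pts.map f =ᶠ[𝓝 x] G ∘ Pts.map f := Germ.coe_eq.1 h'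
        refine Germ.coe_eq.2 ?_
        rw [← hmap]
        exact h''
  · obtain ⟨O, hO, g, rfl⟩ := (anSpace X).presheaf.exists_germ_eq a
    have hO' : Pts.map f x ∈ (Opens.map (TopCat.ofHom
        (⟨e.symm, e.symm.continuous⟩ : C(Pts Y, Pts X)))).obj O := by
      show e.symm (Pts.map f x) ∈ O
      rw [← he, e.symm_apply_apply]
      exact hO
    refine ⟨(anSpace Y).presheaf.germ _ (Pts.map f x) hO' ⟨fun y => g.1 ⟨e.symm y.1, y.2⟩, hinv O g.1 g.2⟩, toGerm_injective x ?_⟩
    rw [toGerm_anMapStalk,
      show toGerm x ((anSpace X).presheaf.germ O x hO g) = funGerm x hO g.1 from toGerm_germ x O hO g]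
    erw [toGerm_germ (X := Y) (Pts.map f x) _ hO']
    refine Germ.coe_eq.2 ?_
    filter_upwards [O.2.mem_nhds hO] with y hy
    have hy' : e.symm (Pts.map f y) = y := by rw [← he, e.symm_apply_apply]
    have hmem : Pts.map f y ∈ (Opens.map (TopCat.ofHom
        (⟨e.symm, e.symm.continuous⟩ : C(Pts Y, Pts X)))).obj O := by
      show e.symm (Pts.map f y) ∈ O
      rw [hy']; exact hy
    show extFun _ (Pts.map f y) = extFun g.1 y
    rw [extFun_of_mem _ hmem, extFun_of_mem g.1 hy]
    exact congrArg g.1 (Subtype.ext hy')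

variable [LocallyOfFiniteType (X ↘ SC)] [LocallyOfFiniteType (Y ↘ SC)]

omit [LocallyOfFiniteType (Y ↘ SC)] in
theorem universallyInjective_of_injective [FormallyUnramified f] (h : Function.Injective (Pts.map f)) :
    UniversallyInjective f := by
  have : LocallyOfFiniteType (f ≫ Y ↘ SC) := by rw [comp_over]; infer_instance
  have : LocallyOfFiniteType f := locallyOfFiniteType_of_comp f (Y ↘ SC)
  rw [UniversallyInjective.iff_diagonal]
  have : LocallyOfFiniteType (pullback f f ↘ SC) := by
    show LocallyOfFiniteType (pullback.fst f f ≫ X ↘ SC)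
    infer_instance
  refine ⟨fun p => ?_⟩
  let D := pullback.diagonal f
  by_contra hp
  obtain ⟨z, hz⟩ := exists_pt_mem (X := pullback f f) (S := (Set.range D)ᶜ)
    D.isOpenEmbedding.isOpen_range.isClosed_compl.isLocallyClosed ⟨p, hp⟩
  have hz' : Pts.map (pullback.fst f f) z = Pts.map (pullback.snd f f) z :=
    h (An.Pts.map_pullback_condition f f z)
  refine hz ⟨(Pts.map (pullback.fst f f) z).pt, ?_⟩
  have hv : (Pts.map (pullback.fst f f) z).1 ≫ D = z.1 := by
    refine pullback.hom_ext ?_ ?_
    · rw [Category.assoc, pullback.diagonal_fst, Category.comp_id]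
      rfl
    · rw [Category.assoc, pullback.diagonal_snd, Category.comp_id]
      exact (congrArg Subtype.val hz')
  show D ((Pts.map (pullback.fst f f) z).1 cpt) = z.1 cpt
  rw [← Scheme.Hom.comp_apply, hv]

theorem isIso_iff [IsReduced X] [IsReduced Y] :
    IsIso f ↔ ∃ e : Pts X ≃ₜ Pts Y, (⇑e = Pts.map f) ∧
      IsHolMap (⟨e.symm, e.symm.continuous⟩ : C(Pts Y, Pts X)) := by
  constructor
  · intro hf
    have : (inv f).IsOver SC := ⟨by rw [IsIso.inv_comp_eq, comp_over]⟩
    refine ⟨⟨⟨Pts.map f, Pts.map (inv f), fun x => ?_, fun y => ?_⟩, Pts.continuous_map f,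
      Pts.continuous_map (inv f)⟩, rfl, fun V g hg => holPred_comp (inv f) V g hg⟩
    · exact Subtype.ext (by rw [map_val, map_val, Category.assoc, IsIso.hom_inv_id, Category.comp_id])
    · exact Subtype.ext (by rw [map_val, map_val, Category.assoc, IsIso.inv_hom_id, Category.comp_id])
  · rintro ⟨e, he, hinv⟩
    have : Etale f := (etale_iff_bijective f).2 (bijective_anMapStalk_of_homeomorph f e he hinv)
    have : UniversallyInjective f := universallyInjective_of_injective f (he ▸ e.injective)
    have : IsOpenImmersion f := Sga84.isOpenImmersion_of_etale f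
    have : Surjective f := by
      refine ⟨fun p => ?_⟩
      by_contra hp
      obtain ⟨y, hy⟩ := exists_pt_mem (X := Y) (S := (Set.range f)ᶜ)
        f.isOpenEmbedding.isOpen_range.isClosed_compl.isLocallyClosed ⟨p, hp⟩
      obtain ⟨x, hx⟩ := e.surjective y
      exact hy ⟨x.pt, by rw [← hx, he, Pts.pt_map]⟩
    exact (isIso_iff_isOpenImmersion_and_surjective f).2 ⟨inferInstance, inferInstance⟩

end Groth.Agent.An92
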