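import Groth.Agent.MvInv51.Basic
import Groth.Agent.CAlg6.PSEndo
import Mathlib.RingTheory.MvPowerSeries.Derivative
import Mathlib.Tactic.Ring

/-!
Formal Morse lemma: a series congruent to a non-degenerate quadratic form in low degrees is that
quadratic form in new coordinates.
-/

set_option autoImplicit false

universe u

namespace Groth.Agent.An92.MorsePS

open MvPowerSeries MvInv51 CAlg6

variable {R : Type u} [CommRing R] {n : ℕ}

local notation "S" => MvPowerSeries (Fin n) R

/-- The quadratic form with table `c` at a family of series. -/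
noncomputable def qf (c : Fin n → Fin n → R) (y : Fin n → S) : S :=
  ∑ i, ∑ j, C (c i j) * (y i * y j)

/-- The `i`-th partial derivative of the quadratic form. -/
noncomputable def lf (c : Fin n → Fin n → R) (i : Fin n) : S :=
  ∑ j, C (c i j + c j i) * X j

lemma qf_add (c : Fin n → Fin n → R) (y e : Fin n → S) :
    qf c (fun i => y i + e i) =
      qf c y + ∑ i, e i * (∑ j, C (c i j + c j i) * y j) + qf c e := by
  simp only [qf, mul_add, add_mul, Finset.sum_add_distrib, map_add, Finset.mul_sum]
  have h1 : ∑ i, ∑ j, C (c i j) * (y i * e j) = ∑ i, ∑ j, e i * (C (c j i) * y j) := by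
    rw [Finset.sum_comm]
    exact Finset.sum_congr rfl fun i _ => Finset.sum_congr rfl fun j _ => by ring
  have h2 : ∑ i, ∑ j, C (c i j) * (e i * y j) = ∑ i, ∑ j, e i * (C (c i j) * y j) :=
    Finset.sum_congr rfl fun i _ => Finset.sum_congr rfl fun j _ => by ring
  rw [h1, h2]
  ring

lemma qf_mem_J {k : ℕ} (c : Fin n → Fin n → R) {y : Fin n → S} (hy : ∀ i, y i ∈ J k) :
    qf c y ∈ J (k + k) :=
  sum_mem fun i _ => sum_mem fun j _ => Ideal.mul_mem_left _ _ (mul_mem_J (hy i) (hy j))

lemma ordGE_iff_mem {N : ℕ} {f : S} : OrdGE N f ↔ f ∈ J N := mem_J.symm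

lemma subst_mem_J {σ : Type} [Finite σ] {k m : ℕ} {b : σ → S} (hk : 1 ≤ k) (hb : ∀ i, b i ∈ J k)
    {h : MvPowerSeries σ R} (hh : h ∈ J m) : subst b h ∈ J (m * k) := by
  have hb1 : ∀ i, b i ∈ J 1 := fun i => J_antitone hk (hb i)
  rw [mem_J]
  intro e he
  rw [coeff_subst (hasSubst_of_mem_J_one hb1)]
  refine finsum_eq_zero_of_forall_eq_zero fun d => ?_
  by_cases hd : d.degree < m
  · rw [mem_J.1 hh d hd, zero_smul]
  · have : d.prod (fun s l => b s ^ l) ∈ J (d.degree * k) := by
      clear hd
      induction d using Finsupp.induction_linear with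
      | zero => simp [mem_J_zero]
      | add d d' hd hd' =>
        rw [map_add, add_mul, Finsupp.prod_add_index' (fun _ => pow_zero _) (fun _ _ _ => pow_add _ _ _)]
        exact mul_mem_J hd hd'
      | single s l =>
        rw [Finsupp.prod_single_index (h := fun s l => b s ^ l) (pow_zero _), Finsupp.degree_single]
        induction l with
        | zero => simp [mem_J_zero]
        | succ l ih => rw [pow_succ, Nat.succ_mul]; exact mul_mem_J ih (hb s)
    have hle : m * k ≤ d.degree * k := Nat.mul_le_mul_right k (Nat.le_of_not_lt hd)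
    rw [mem_J.1 this e (lt_of_lt_of_le he hle), smul_zero]

/-- Morse lemma: `Q + H = Q(X + ε)` for `H` of order `m + 1 ≥ 3`, with `ε` of order `m`. -/
theorem exists_subst (c B : Fin n → Fin n → R) (hB : ∀ j, X j = ∑ i, C (B j i) * lf c i)
    {m : ℕ} (hm : 2 ≤ m) (H : S) (hH : H ∈ J (m + 1)) :
    ∃ ε : Fin n → S, (∀ i, ε i ∈ J m) ∧ qf c (fun i => X i + ε i) = qf c X + H := by
  classical
  obtain ⟨P, hP, rfl⟩ := exists_decomp (N := m) (ordGE_iff_mem.2 hH)
  have hP' : ∀ j, OrdGE (m - 1 + 1) (P j) := fun j => by
    rw [Nat.sub_add_cancel (by omega)]; exact hP j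
  choose P2 hP2 hPP using fun j => exists_decomp (hP' j)
  let h : Fin n × Fin n → MvPowerSeries (Fin n × Fin n) R := fun im =>
    ∑ j, ∑ k, ∑ l, C (B j im.1 * c k l) * (X (k, j) * X (l, im.2))
  have hh : ∀ im, h im ∈ J 2 := fun im => sum_mem fun j _ => sum_mem fun k _ => sum_mem fun l _ =>
    Ideal.mul_mem_left _ _ (mul_mem_J (X_mem_J_one _) (X_mem_J_one _))
  let g : Fin n × Fin n → S := fun im => ∑ j, C (B j im.1) * P2 j im.2
  have hg : ∀ im, g im ∈ J (m - 1) := fun im => sum_mem fun j _ =>
    Ideal.mul_mem_left _ _ (ordGE_iff_mem.1 (hP2 j im.2))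
  obtain ⟨G, hG1, hG⟩ := exists_fixedPoint g (fun im => J_antitone (by omega) (hg im)) h hh
  have hGm : ∀ k, k ≤ m - 1 → ∀ im, G im ∈ J k := by
    intro k
    induction k with
    | zero => exact fun _ im => mem_J_zero _
    | succ k ih =>
      intro hk im
      rcases Nat.eq_zero_or_pos k with rfl | hk'
      · exact hG1 im
      rw [hG im]
      exact sub_mem (J_antitone hk (hg im))
        (J_antitone (by omega) (subst_mem_J hk' (ih (by omega)) (hh im)))
  have hs := hasSubst_of_mem_J_one hG1
  let ε : Fin n → S := fun i => ∑ l, X l * G (i, l)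
  refine ⟨ε, fun i => sum_mem fun l _ => ?_, ?_⟩
  · have := mul_mem_J (X_mem_J_one (R := R) l) (hGm (m - 1) le_rfl (i, l))
    rwa [Nat.add_sub_cancel' (by omega : 1 ≤ m)] at this
  · rw [qf_add, add_assoc]
    congr 1
    have hsub : ∀ im, subst G (h im) =
        ∑ j, ∑ k, ∑ l, C (B j im.1 * c k l) * (G (k, j) * G (l, im.2)) := by
      intro im
      simp only [h, ← substAlgHom_apply hs, map_sum, map_mul, substAlgHom_X]
      simp only [substAlgHom_apply hs, subst_C]
    -- the residual series
    let W : Fin n → S := fun j => P j - ∑ k, ∑ l, C (c k l) * (G (k, j) * ε l)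
    have hε : ∀ i, ε i = ∑ j, C (B j i) * W j := by
      intro i
      calc ε i = ∑ a, X a * (g (i, a) - subst G (h (i, a))) :=
            Finset.sum_congr rfl fun a _ => by rw [← hG]
        _ = ∑ a, ∑ j, (C (B j i) * (X a * P2 j a) -
              ∑ k, ∑ l, C (B j i) * (C (c k l) * (G (k, j) * (X a * G (l, a))))) := by
            refine Finset.sum_congr rfl fun a _ => ?_
            rw [hsub, mul_sub, Finset.mul_sum, Finset.mul_sum, ← Finset.sum_sub_distrib]
            refine Finset.sum_congr rfl fun j _ => ?_
            congr 1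
            · ring
            · rw [Finset.mul_sum]
              refine Finset.sum_congr rfl fun k _ => ?_
              rw [Finset.mul_sum]
              refine Finset.sum_congr rfl fun l _ => ?_
              rw [map_mul]; ring
        _ = _ := by
            rw [Finset.sum_comm]
            refine Finset.sum_congr rfl fun j _ => ?_
            rw [Finset.sum_sub_distrib, mul_sub, hPP j, Finset.mul_sum]
            congr 1
            rw [Finset.sum_comm, Finset.mul_sum]
            refine Finset.sum_congr rfl fun k _ => ?_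
            rw [Finset.sum_comm, Finset.mul_sum]
            refine Finset.sum_congr rfl fun l _ => ?_
            simp only [ε, Finset.mul_sum]
    have h1 : ∑ i, ε i * (∑ j, C (c i j + c j i) * X j) = ∑ j, X j * W j := by
      calc ∑ i, ε i * (∑ j, C (c i j + c j i) * X j) = ∑ i, ∑ j, W j * (C (B j i) * lf c i) :=
            Finset.sum_congr rfl fun i _ => by
              rw [show (∑ j, C (c i j + c j i) * X j : S) = lf c i from rfl, hε i, Finset.sum_mul]
              exact Finset.sum_congr rfl fun j _ => by ring
        _ = _ := by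
            rw [Finset.sum_comm]
            exact Finset.sum_congr rfl fun j _ => by rw [← Finset.mul_sum, ← hB]; ring
    have h2 : qf c ε = ∑ j, X j * ∑ k, ∑ l, C (c k l) * (G (k, j) * ε l) := by
      have : qf c ε = ∑ k, ∑ l, ∑ j, C (c k l) * (X j * G (k, j) * ε l) :=
        Finset.sum_congr rfl fun k _ => Finset.sum_congr rfl fun l _ => by
          rw [show ε k = ∑ j, X j * G (k, j) from rfl, Finset.sum_mul, Finset.mul_sum]
      rw [this]
      simp only [Finset.mul_sum]
      rw [Finset.sum_congr rfl fun k _ => Finset.sum_comm, Finset.sum_comm]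
      exact Finset.sum_congr rfl fun j _ => Finset.sum_congr rfl fun k _ =>
        Finset.sum_congr rfl fun l _ => by ring
    rw [h1, h2, ← Finset.sum_add_distrib]
    exact Finset.sum_congr rfl fun j _ => by simp only [W]; ring

/-- An algebra endomorphism preserving the augmentation is a substitution. -/
theorem algHom_eq_subst (φ : MvPowerSeries (Fin n) R →ₐ[R] MvPowerSeries (Fin n) R)
    (h0 : ∀ i, constantCoeff (φ (X i)) = 0) (f : S) : φ f = subst (fun i => φ (X i)) f := by
  have hs : HasSubst (fun i => φ (X i)) := hasSubst_of_constantCoeff_zero h0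
  suffices ∀ (N : ℕ) (f : S), φ f - substAlgHom hs f ∈ J N by
    rw [← substAlgHom_apply hs]; exact eq_of_forall_sub_mem_J fun N => this N f
  intro N
  induction N with
  | zero => exact fun f => mem_J_zero _
  | succ N ih =>
    intro f
    obtain ⟨g, -, hg⟩ := exists_decomp (N := 0) (f := f - algebraMap R S (constantCoeff f))
      (ordGE_one_iff.2 (by
        rw [map_sub, ← c_eq_algebraMap, constantCoeff_C, sub_self]))
    rw [sub_eq_iff_eq_add.1 hg, map_add, map_add, AlgHom.commutes, AlgHom.commutes,
      add_sub_add_right_eq_sub, map_sum, map_sum, ← Finset.sum_sub_distrib]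
    refine sum_mem fun i _ => ?_
    rw [map_mul, map_mul, substAlgHom_X, ← mul_sub, add_comm N 1]
    exact mul_mem_J (mem_J_one.2 (h0 i)) (ih (g i))

end Groth.Agent.An92.MorsePS
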