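import Groth.Agent.An92.MorsePS
import Groth.Prelude.Def_QuadSing

/-!
The formal Morse lemma for the quadratic forms `VanCyc.quadPoly`.
-/

set_option autoImplicit false

universe u

namespace Groth.Agent.An92.MorsePS

open MvPowerSeries MvInv51 CAlg6

variable {R : Type u} [CommRing R] {n : ℕ}

local notation "S" => MvPowerSeries (Fin n) R

/-- The upper triangular table of a quadratic form. -/
def tri (q : Fin n → Fin n → R) (i j : Fin n) : R := if i ≤ j then q i j else 0

lemma coe_quadPoly (q : Fin n → Fin n → R) :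
    (VanCyc.quadPoly q : S) = qf (tri q) X := by
  rw [← MvPolynomial.coeToMvPowerSeries.ringHom_apply, VanCyc.quadPoly, map_sum]
  refine Finset.sum_congr rfl fun i _ => ?_
  rw [map_sum]
  refine Finset.sum_congr rfl fun j _ => ?_
  unfold tri
  split_ifs <;> simp [mul_assoc]

lemma tri_add_tri (q : Fin n → Fin n → R) (i j : Fin n) :
    tri q i j + tri q j i = VanCyc.polarMatrix q i j := by
  unfold tri VanCyc.polarMatrix
  rcases lt_trichotomy i j with h | h | h
  · rw [if_pos h.le, if_neg (not_le.2 h), if_neg h.ne, if_pos h, add_zero]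
  · subst h; rw [if_pos le_rfl, if_pos rfl]; ring
  · rw [if_neg (not_le.2 h), if_pos h.le, if_neg h.ne', if_neg h.le.not_gt, zero_add]

lemma exists_dual (q : Fin n → Fin n → R) (hq : VanCyc.QuadNondeg q) :
    ∃ B : Fin n → Fin n → R, ∀ j, (X j : S) = ∑ i, C (B j i) * lf (tri q) i := by
  classical
  refine ⟨((VanCyc.polarMatrix q)⁻¹ : Matrix (Fin n) (Fin n) R), fun j => ?_⟩
  simp only [lf, tri_add_tri, Finset.mul_sum]
  rw [Finset.sum_comm]
  simp only [← mul_assoc, ← map_mul, ← Finset.sum_mul, ← map_sum, ← Matrix.mul_apply,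
    Matrix.nonsing_inv_mul _ hq]
  simp [Matrix.one_apply]

lemma qf_subst {b : Fin n → S} (hb : HasSubst b) (c : Fin n → Fin n → R) :
    subst b (qf c X : S) = qf c b := by
  rw [← substAlgHom_apply hb]
  simp only [qf, map_sum, map_mul, substAlgHom_X]
  simp only [substAlgHom_apply hb, subst_C]

/-- Substitution `X + ε` with `ε` of order `m ≥ 2` has an inverse of the same shape. -/
theorem exists_inverse {m : ℕ} (hm : 2 ≤ m) (ε : Fin n → S) (hε : ∀ i, ε i ∈ J m) :
    ∃ h : Fin n → S, (∀ i, h i ∈ J m) ∧ HasSubst (fun i => X i + h i) ∧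
      (∀ f : S, subst (fun i => X i + h i) (subst (fun i => X i + ε i) f) = f) ∧
      ∃ θ : S ≃ₐ[R] S, ∀ f, θ f = subst (fun i => X i + h i) f := by
  have hε0 : ∀ i, constantCoeff (X i + ε i : S) = 0 := fun i => by
    rw [map_add, constantCoeff_X, zero_add]
    exact mem_J_one.1 (J_antitone (by omega) (hε i))
  have hs : HasSubst (fun i => X i + ε i) := hasSubst_of_constantCoeff_zero hε0
  let φ : S →ₐ[R] S := substAlgHom hs
  have hφ : ∀ i, φ (X i) = X i + ε i := fun i => substAlgHom_X hs i
  let e := AlgEquiv.ofBijective φ (bijective_of_sub_X_ordGE_two φ fun i => by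
    rw [hφ, add_sub_cancel_left]; exact ordGE_iff_mem.2 (J_antitone hm (hε i)))
  have he : ∀ f, e f = φ f := fun f => rfl
  have hc : ∀ f : S, constantCoeff (φ f) = constantCoeff f := by
    intro f
    have h1 : OrdGE 1 (f - algebraMap R S (constantCoeff f)) := ordGE_one_iff.2 (by
      rw [map_sub, ← c_eq_algebraMap, constantCoeff_C, sub_self])
    have h2 := ordGE_one_iff.1 (ordGE_algHom φ (fun i => by rw [hφ]; exact hε0 i) 1 _ h1)
    rwa [map_sub, AlgHom.commutes, map_sub, ← c_eq_algebraMap, constantCoeff_C, sub_eq_zero] at h2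
  have hθ0 : ∀ i, constantCoeff (e.symm.toAlgHom (X i)) = 0 := fun i => by
    rw [← hc, ← he]
    exact (congrArg constantCoeff (e.apply_symm_apply (X i))).trans (constantCoeff_X i)
  let h : Fin n → S := fun i => - e.symm (ε i)
  have hX : ∀ i, X i + h i = e.symm (X i) := fun i => by
    have : e.symm (φ (X i)) = X i := by rw [← he]; exact e.symm_apply_apply _
    rw [hφ, map_add] at this
    simp only [h]
    linear_combination -this
  have hsub : ∀ f : S, e.symm f = subst (fun i => X i + h i) f := fun f => by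
    simp only [hX]
    exact algHom_eq_subst e.symm.toAlgHom hθ0 f
  refine ⟨h, fun i => neg_mem (ordGE_iff_mem.1 (ordGE_algHom e.symm.toAlgHom hθ0 m _
    (ordGE_iff_mem.2 (hε i)))), hasSubst_of_constantCoeff_zero fun i => by rw [hX]; exact hθ0 i,
    fun f => ?_, e.symm, hsub⟩
  rw [← hsub, ← substAlgHom_apply hs]
  exact e.symm_apply_apply f

end Groth.Agent.An92.MorsePS
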