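import Groth.Agent.An92.UnivClosed
import Groth.Agent.An92.Maps
import Mathlib.AlgebraicGeometry.ZariskisMainTheorem

/-!
Proper and finite morphisms read off on complex points.
-/

set_option autoImplicit false

noncomputable section

open AlgebraicGeometry CategoryTheory TopologicalSpace Topology

namespace Groth.Agent.An92

open An An.Pts

variable {X Y : Scheme.{0}} [X.Over SC] [Y.Over SC] [LocallyOfFiniteType (X ↘ SC)]
  [LocallyOfFiniteType (Y ↘ SC)]

theorem locallyOfFiniteType (f : X ⟶ Y) [f.IsOver SC] : LocallyOfFiniteType f := by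
  have := locallyOfFinitePresentation f
  infer_instance

theorem isProper_iff (f : X ⟶ Y) [f.IsOver SC] [QuasiCompact f] :
    IsProper f ↔ IsProperMap (Pts.map f) ∧ IsSeparatedMap (Pts.map f) := by
  refine ⟨fun _ => ⟨isProperMap_of_universallyClosed f, (isSeparated_iff f).1 inferInstance⟩,
    fun ⟨hp, hs⟩ => ?_⟩
  have := (isSeparated_iff f).2 hs
  have := universallyClosed_of_isProperMap f hp
  have := locallyOfFiniteType f
  exact {}

theorem isProper_iff_compactSpace [QuasiCompact (X ↘ SC)] :
    IsProper (X ↘ SC) ↔ CompactSpace (Pts X) ∧ T2Space (Pts X) := by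
  have : (X ↘ SC).IsOver SC := ⟨Category.comp_id _⟩
  have : LocallyOfFiniteType (SC ↘ SC) := inferInstanceAs (LocallyOfFiniteType (𝟙 SC))
  have := subsingleton_pts_base
  have hkey : IsProperMap (Pts.map (X ↘ SC)) ↔ CompactSpace (Pts X) := by
    refine ⟨fun h => ⟨?_⟩, fun _ => (Pts.continuous_map _).isProperMap⟩
    simpa using h.isCompact_preimage (Set.subsingleton_univ.finite.isCompact)
  rw [isProper_iff (X ↘ SC), hkey, ← isSeparated_iff (X ↘ SC), isSeparated_iff_t2Space]

/-- A morphism with finitely many complex points over each complex point is locally quasi-finite. -/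
theorem locallyQuasiFinite_of_finite_fibres (f : X ⟶ Y) [f.IsOver SC]
    (hfin : ∀ y : Pts Y, (Pts.map f ⁻¹' {y}).Finite) : LocallyQuasiFinite f := by
  have := locallyOfFiniteType f
  have := jacobsonSpace X
  rw [← Scheme.Hom.quasiFiniteLocus_eq_top_iff]
  by_contra hne
  obtain ⟨x, hxS⟩ := exists_pt_mem (S := (f.quasiFiniteLocus : Set X)ᶜ)
    f.quasiFiniteLocus.2.isClosed_compl.isLocallyClosed
    (Set.nonempty_compl.2 fun h => hne (Opens.coe_inj.1 (h.trans Opens.coe_top.symm)))
  refine hxS.elim ?_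
  let Z : Set X := f ⁻¹' {f x.pt}
  have hfx : f x.pt = (Pts.map f x).pt := (Pts.pt_map f x).symm
  have hZ : IsClosed Z := by
    show IsClosed (f ⁻¹' {f x.pt})
    rw [hfx]
    exact (isClosed_pt _).preimage f.continuous
  have hC : Z ∩ closedPoints X ⊆ Pts.pt '' (Pts.map f ⁻¹' {Pts.map f x}) := by
    rintro p ⟨hpZ, hp⟩
    obtain ⟨x', rfl⟩ := exists_pt_eq hp
    exact ⟨x', pt_injective (by rw [Pts.pt_map, Pts.pt_map]; exact hpZ), rfl⟩
  have hCfin : (Z ∩ closedPoints X).Finite := ((hfin _).image _).subset hC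
  have hclC : IsClosed (Z ∩ closedPoints X) := by
    rw [← (Z ∩ closedPoints X).biUnion_of_singleton]
    exact hCfin.isClosed_biUnion fun p hp => hp.2
  have hZC : Z = Z ∩ closedPoints X := by
    refine subset_antisymm ?_ Set.inter_subset_left
    rw [← hclC.closure_eq, closure_inter_closedPoints hZ]
  show f.QuasiFiniteAt x.pt
  rw [Scheme.Hom.quasiFiniteAt_iff_isOpen_singleton_asFiber, ← (f.fiberHomeo (f x.pt)).isOpen_image,
    Set.image_singleton]
  have hcl : ∀ p : Z, IsClosed ({p} : Set Z) := fun p => by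
    have : IsClosed ({p.1} : Set X) := (hZC.le p.2).2
    convert this.preimage continuous_subtype_val
    ext q
    exact Subtype.ext_iff
  have : Finite Z := (hCfin.subset hZC.le).to_subtype
  have : T1Space Z := ⟨hcl⟩
  exact isOpen_discrete _

theorem isFinite_iff (f : X ⟶ Y) [f.IsOver SC] [QuasiCompact f] :
    IsFinite f ↔ IsProperMap (Pts.map f) ∧ IsSeparatedMap (Pts.map f) ∧
      ∀ y : Pts Y, (Pts.map f ⁻¹' {y}).Finite := by
  refine ⟨fun _ => ?_, fun ⟨hp, hs, hfin⟩ => ?_⟩
  · obtain ⟨h1, h2⟩ := (isProper_iff f).1 inferInstance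
    refine ⟨h1, h2, fun y => ((f.finite_preimage_singleton y.pt).preimage pt_injective.injOn).subset ?_⟩
    intro x hx
    show f x.pt = y.pt
    rw [← Pts.pt_map, show Pts.map f x = y from hx]
  · have := (isProper_iff f).2 ⟨hp, hs⟩
    have := locallyQuasiFinite_of_finite_fibres f hfin
    exact IsFinite.of_isProper_of_locallyQuasiFinite f

end Groth.Agent.An92
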