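import Groth.Agent.An92.Immersion
import Mathlib.AlgebraicGeometry.ValuativeCriterion
import Mathlib.Order.Filter.FilterProduct
import Mathlib.RingTheory.Valuation.ValuationSubring

/-!
Universally closed morphisms give proper maps on complex points, via the valuative criterion for
the ultrapower field attached to an ultrafilter on the space of points.
-/

set_option autoImplicit false

noncomputable section

open AlgebraicGeometry CategoryTheory TopologicalSpace Topology Filter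

namespace Groth.Agent.An92

open An An.Pts

section Germs

variable {α : Type} (u : Ultrafilter α)

/-- Germs along an ultrafilter. -/
abbrev Ult : Type := (u : Filter α).Germ ℂ

theorem tendsto_of_eventually_le {f : α → ℂ} {B : ℝ} (h : ∀ᶠ a in (u : Filter α), ‖f a‖ ≤ B) :
    ∃ z, Tendsto f u (𝓝 z) := by
  obtain ⟨z, -, hz⟩ := (isCompact_closedBall (0 : ℂ) B).ultrafilter_le_nhds (u.map f)
    (le_principal_iff.2 (h.mono fun a ha => mem_closedBall_zero_iff.2 ha))
  exact ⟨z, hz⟩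

/-- The germs having a limit: a valuation subring of the ultrapower. -/
def limRing : ValuationSubring (Ult u) where
  carrier := {g | ∃ f : α → ℂ, (f : Ult u) = g ∧ ∃ z, Tendsto f u (𝓝 z)}
  one_mem' := ⟨fun _ => 1, rfl, 1, tendsto_const_nhds⟩
  zero_mem' := ⟨fun _ => 0, rfl, 0, tendsto_const_nhds⟩
  mul_mem' := by
    rintro _ _ ⟨f, rfl, a, ha⟩ ⟨g, rfl, b, hb⟩
    exact ⟨f * g, rfl, a * b, ha.mul hb⟩
  add_mem' := by
    rintro _ _ ⟨f, rfl, a, ha⟩ ⟨g, rfl, b, hb⟩
    exact ⟨f + g, rfl, a + b, ha.add hb⟩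
  neg_mem' := by
    rintro _ ⟨f, rfl, a, ha⟩
    exact ⟨-f, rfl, -a, ha.neg⟩
  mem_or_inv_mem' g := by
    induction g using Germ.inductionOn with
    | h f =>
      rcases (u.em fun a => ‖f a‖ ≤ 1) with h | h
      · exact Or.inl ⟨f, rfl, tendsto_of_eventually_le u h⟩
      · refine Or.inr ⟨f⁻¹, rfl, tendsto_of_eventually_le u (B := 1) (h.mono fun a ha => ?_)⟩
        rw [Pi.inv_apply, norm_inv]
        exact inv_le_one_of_one_le₀ (not_le.1 ha).le

theorem mem_limRing {f : α → ℂ} {z : ℂ} (h : Tendsto f u (𝓝 z)) : (f : Ult u) ∈ limRing u :=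
  ⟨f, rfl, z, h⟩

/-- The limit of a germ. -/
def stdVal (g : limRing u) : ℂ := g.2.choose_spec.2.choose

theorem tendsto_stdVal (g : limRing u) {f : α → ℂ} (hf : (f : Ult u) = g.1) :
    Tendsto f u (𝓝 (stdVal u g)) :=
  g.2.choose_spec.2.choose_spec.congr'
    (Germ.coe_eq.1 (g.2.choose_spec.1.trans hf.symm))

theorem stdVal_eq (g : limRing u) {f : α → ℂ} (hf : (f : Ult u) = g.1) {z : ℂ}
    (h : Tendsto f u (𝓝 z)) : stdVal u g = z :=
  tendsto_nhds_unique (tendsto_stdVal u g hf) h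

/-- Taking limits, as a ring homomorphism. -/
def stdPart : limRing u →+* ℂ where
  toFun := stdVal u
  map_one' := stdVal_eq u _ (f := fun _ => 1) rfl tendsto_const_nhds
  map_zero' := stdVal_eq u _ (f := fun _ => 0) rfl tendsto_const_nhds
  map_mul' g h := by
    obtain ⟨f, hf, -⟩ := g.2
    obtain ⟨f', hf', -⟩ := h.2
    exact stdVal_eq u _ (f := f * f') (by rw [Germ.coe_mul, hf, hf']; rfl)
      ((tendsto_stdVal u g hf).mul (tendsto_stdVal u h hf'))
  map_add' g h := by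
    obtain ⟨f, hf, -⟩ := g.2
    obtain ⟨f', hf', -⟩ := h.2
    exact stdVal_eq u _ (f := f + f') (by rw [Germ.coe_add, hf, hf']; rfl)
      ((tendsto_stdVal u g hf).add (tendsto_stdVal u h hf'))

end Germs

variable {X Y : Scheme.{0}} [X.Over SC] [Y.Over SC]

theorem eq_specMap_evHom (x : Pts X) {U : X.Opens} (hU : IsAffineOpen U) (h : x.pt ∈ U) :
    x.1 = Spec.map (CommRingCat.ofHom (evHom x U h)) ≫ hU.fromSpec := by
  have h1 := IsAffineOpen.SpecMap_appLE_fromSpec x.1 hU (isAffineOpen_top SC) (top_le_preimage x h)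
  have h2 : CommRingCat.ofHom (evHom x U h) =
      x.1.appLE U ⊤ (top_le_preimage x h) ≫ (Scheme.ΓSpecIso (CommRingCat.of ℂ)).hom := rfl
  rw [h2, Spec.map_comp, Category.assoc, h1, IsAffineOpen.fromSpec_top, Scheme.isoSpec_Spec_inv,
    ← Category.assoc, ← Spec.map_comp, Iso.inv_hom_id, Spec.map_id, Category.id_comp]

theorem ev_eq_of_eq_specMap (x : Pts X) {U : X.Opens} (hU : IsAffineOpen U) (φ : Γ(X, U) →+* ℂ)
    (hx : x.1 = Spec.map (CommRingCat.ofHom φ) ≫ hU.fromSpec) :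
    ∃ h : x.pt ∈ U, ∀ a, x.ev U h a = φ a := by
  have h : x.pt ∈ U := by
    show x.1 cpt ∈ U
    rw [hx, Scheme.Hom.comp_apply]
    exact hU.range_fromSpec.le ⟨_, rfl⟩
  refine ⟨h, fun a => ?_⟩
  have he := (eq_specMap_evHom x hU h).symm.trans hx
  rw [cancel_mono] at he
  exact congrArg (fun k => k.hom a) (Spec.map_injective he)

/-- Convergence at a point is detected by the sections on one affine neighbourhood. -/
theorem tendsto_of_forall_ev {α : Type} {l : Filter α} {p : α → Pts X} {x : Pts X} {U : X.Opens}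
    (hU : IsAffineOpen U) (hx : x.pt ∈ U) (hmem : ∀ᶠ a in l, (p a).pt ∈ U)
    (h : ∀ (b : Γ(X, U)) (V : Set ℂ), IsOpen V → x.ev U hx b ∈ V →
      ∀ᶠ a in l, ∃ ha : (p a).pt ∈ U, (p a).ev U ha b ∈ V) :
    Tendsto p l (𝓝 x) := by
  rw [TopologicalSpace.tendsto_nhds_generateFrom_iff]
  rintro _ ⟨O, f, V, hV, rfl⟩ ⟨hxO, hxV⟩
  obtain ⟨g, hgle, hxg⟩ := hU.exists_basicOpen_le (V := O) ⟨x.pt, hxO⟩ hx
  have := hU.isLocalization_basicOpen g
  obtain ⟨a, ⟨_, m, rfl⟩, ham⟩ :=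
    IsLocalization.exists_mk'_eq (Submonoid.powers g) (X.presheaf.map (homOfLE hgle).op f)
  have hres : ∀ y : Pts X, ∀ hy : y.pt ∈ X.basicOpen g,
      y.ev O (hgle hy) f * y.ev U (X.basicOpen_le g hy) g ^ m = y.ev U (X.basicOpen_le g hy) a := by
    intro y hy
    have h1 := IsLocalization.mk'_spec Γ(X, X.basicOpen g) a
      (⟨g ^ m, m, rfl⟩ : Submonoid.powers g)
    rw [ham] at h1
    have h2 := congrArg (evHom y (X.basicOpen g) hy) h1
    have hr : ∀ b : Γ(X, U), evHom y (X.basicOpen g) hy (algebraMap Γ(X, U) Γ(X, X.basicOpen g) b)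
        = y.ev U (X.basicOpen_le g hy) b := fun b => ev_res y (X.basicOpen_le g) hy b
    rw [map_mul, hr, hr, evHom_apply, ev_res y hgle hy f] at h2
    have hp : y.ev U (X.basicOpen_le g hy) (g ^ m) = y.ev U (X.basicOpen_le g hy) g ^ m :=
      map_pow (evHom y U (X.basicOpen_le g hy)) g m
    rw [← hp]
    exact h2
  have hg0 : x.ev U hx g ≠ 0 := (mem_basicOpen_iff x U hx g).1 hxg
  have hxV' : x.ev U hx a / x.ev U hx g ^ m ∈ V := by
    rwa [← hres x hxg, mul_div_assoc, div_self (pow_ne_zero _ hg0), mul_one]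
  have hc : ContinuousAt (fun q : ℂ × ℂ => q.1 / q.2 ^ m) (x.ev U hx a, x.ev U hx g) :=
    continuousAt_fst.div (continuousAt_snd.pow m) (pow_ne_zero _ hg0)
  obtain ⟨A, hA, B, hB, hAB⟩ := mem_nhds_prod_iff.1 (hc.preimage_mem_nhds (hV.mem_nhds hxV'))
  obtain ⟨A', hA'A, hA'o, haA'⟩ := mem_nhds_iff.1 hA
  obtain ⟨B', hB'B, hB'o, hgB'⟩ := mem_nhds_iff.1 (inter_mem hB (isOpen_ne.mem_nhds hg0))
  filter_upwards [h a A' hA'o haA', h g B' hB'o hgB'] with z ⟨hz, hza⟩ ⟨_, hzg⟩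
  have hne : (p z).ev U hz g ≠ 0 := (hB'B hzg).2
  have hzg' : (p z).pt ∈ X.basicOpen g := (mem_basicOpen_iff (p z) U hz g).2 hne
  refine ⟨hgle hzg', ?_⟩
  have h3 : (p z).ev U hz a / (p z).ev U hz g ^ m ∈ V := hAB (show ((p z).ev U hz a, (p z).ev U hz g) ∈ A ×ˢ B from ⟨hA'A hza, (hB'B hzg).1⟩)
  rwa [← hres (p z) hzg', mul_div_assoc, div_self (pow_ne_zero _ hne), mul_one] at h3

open scoped Classical in
/-- Evaluation along a family of points, extended by zero. -/
def evFun {α : Type} (p : α → Pts X) (U : X.Opens) (b : Γ(X, U)) (a : α) : ℂ :=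
  if h : (p a).pt ∈ U then (p a).ev U h b else 0

theorem evFun_pos {α : Type} (p : α → Pts X) (U : X.Opens) (b : Γ(X, U)) {a : α}
    (h : (p a).pt ∈ U) : evFun p U b a = (p a).ev U h b := dif_pos h

/-- The point of `X` with values in the ultrapower, on one affine piece. -/
def germHom {α : Type} (u : Ultrafilter α) (p : α → Pts X) (U : X.Opens)
    (h : ∀ᶠ a in (u : Filter α), (p a).pt ∈ U) : Γ(X, U) →+* Ult u where
  toFun b := (evFun p U b : Ult u)
  map_one' := Germ.coe_eq.2 (h.mono fun a ha => by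
    rw [evFun_pos _ _ _ ha]; exact map_one (evHom (p a) U ha))
  map_zero' := Germ.coe_eq.2 (h.mono fun a ha => by
    rw [evFun_pos _ _ _ ha]; exact map_zero (evHom (p a) U ha))
  map_mul' b c := Germ.coe_eq.2 (h.mono fun a ha => by
    show _ = evFun p U b a * evFun p U c a
    rw [evFun_pos _ _ _ ha, evFun_pos _ _ _ ha, evFun_pos _ _ _ ha]
    exact map_mul (evHom (p a) U ha) b c)
  map_add' b c := Germ.coe_eq.2 (h.mono fun a ha => by
    show _ = evFun p U b a + evFun p U c a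
    rw [evFun_pos _ _ _ ha, evFun_pos _ _ _ ha, evFun_pos _ _ _ ha]
    exact map_add (evHom (p a) U ha) b c)

theorem germHom_res {α : Type} (u : Ultrafilter α) (p : α → Pts X) {U U' : X.Opens} (hle : U' ≤ U)
    (h : ∀ᶠ a in (u : Filter α), (p a).pt ∈ U) (h' : ∀ᶠ a in (u : Filter α), (p a).pt ∈ U') :
    (germHom u p U' h').comp (X.presheaf.map (homOfLE hle).op).hom = germHom u p U h :=
  RingHom.ext fun b => Germ.coe_eq.2 (h'.mono fun a ha => by
    rw [evFun_pos _ _ _ ha, evFun_pos _ _ _ (hle ha), ev_res (p a) hle ha b])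

theorem eventually_of_mem {α : Type} (u : Ultrafilter α) (p : α → Pts X) {U : X.Opens}
    (hU : IsAffineOpen U) (h : ∀ᶠ a in (u : Filter α), (p a).pt ∈ U) (b : Γ(X, U))
    (q : Spec (CommRingCat.of (Ult u)))
    (hq : hU.fromSpec (Spec.map (CommRingCat.ofHom (germHom u p U h)) q) ∈ X.basicOpen b) :
    ∀ᶠ a in (u : Filter α), (p a).pt ∈ X.basicOpen b := by
  have hb : germHom u p U h b ≠ 0 := by
    intro h0
    change Spec.map (CommRingCat.ofHom (germHom u p U h)) q ∈ hU.fromSpec ⁻¹ᵁ X.basicOpen b at hq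
    rw [hU.fromSpec_preimage_basicOpen] at hq
    refine hq ?_
    show germHom u p U h b ∈ q.asIdeal
    rw [h0]
    exact q.asIdeal.zero_mem
  have : ∀ᶠ a in (u : Filter α), evFun p U b a ≠ 0 :=
    Ultrafilter.eventually_not.2 fun h0 => hb (Germ.coe_eq.2 h0)
  filter_upwards [this, h] with a ha1 ha2
  rw [evFun_pos _ _ _ ha2] at ha1
  exact (mem_basicOpen_iff (p a) U ha2 b).2 ha1

theorem exists_limit (g : X ⟶ Y) [g.IsOver SC] [UniversallyClosed g] (u : Ultrafilter (Pts X))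
    (y : Pts Y) (hu : Tendsto (Pts.map g) u (𝓝 y)) :
    ∃ x, Pts.map g x = y ∧ (u : Filter (Pts X)) ≤ 𝓝 x := by
  classical
  obtain ⟨W, hW, hyW, -⟩ := exists_isAffineOpen_mem_and_subset (U := ⊤) (Opens.mem_top y.pt)
  have hgW : ∀ᶠ x in (u : Filter (Pts X)), (Pts.map g x).pt ∈ W :=
    hu.eventually ((Pts.isOpen_preimage_pt W).mem_nhds hyW)
  -- an affine piece of the preimage that the ultrafilter lies in
  obtain ⟨s, hs, hcov⟩ := (isCompact_iff_finite_and_eq_biUnion_affineOpens (U := g ⁻¹ᵁ W)).1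
    (g.isCompact_preimage hW.isCompact)
  obtain ⟨U, hUs, hUu⟩ : ∃ U ∈ s, ∀ᶠ x in (u : Filter (Pts X)), x.pt ∈ U.1 := by
    have : (⋃ U ∈ s, (Pts.pt ⁻¹' (U.1 : Set X) : Set (Pts X))) ∈ u := by
      filter_upwards [hgW] with x hx
      rw [Pts.pt_map] at hx
      have hx' : x.pt ∈ ((g ⁻¹ᵁ W : X.Opens) : Set X) := hx
      rw [hcov] at hx'
      simpa using hx'
    obtain ⟨U, hU, h⟩ := (Ultrafilter.finite_biUnion_mem_iff hs).1 this
    exact ⟨U, hU, h⟩
  have hUW : U.1 ≤ g ⁻¹ᵁ W := fun z hz => by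
    have : z ∈ ⋃ V ∈ s, (V.1 : Set X) := Set.mem_biUnion hUs hz
    have hc : ((g ⁻¹ᵁ W : X.Opens) : Set X) = ⋃ V ∈ s, (V.1 : Set X) := by
      rw [hcov]; simp
    rw [← hc] at this
    exact this
  have htend : ∀ b : Γ(Y, W), Tendsto (evFun (Pts.map g) W b) u (𝓝 (y.ev W hyW b)) := by
    intro b
    rw [tendsto_nhds]
    intro V hV hyV
    filter_upwards [hu.eventually ((Pts.isOpen_basicSet W b hV).mem_nhds ⟨hyW, hyV⟩)] with x ⟨hx, hxV⟩
    show evFun (Pts.map g) W b x ∈ V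
    rw [evFun_pos _ _ _ hx]
    exact hxV
  let ρ : Γ(Y, W) →+* limRing u :=
    (germHom u (Pts.map g) W hgW).codRestrict (limRing u) fun b => mem_limRing u (htend b)
  have hρ : (stdPart u).comp ρ = evHom y W hyW :=
    RingHom.ext fun b => stdVal_eq u _ (f := evFun (Pts.map g) W b) rfl (htend b)
  let ι : limRing u →+* Ult u := algebraMap (limRing u) (Ult u)
  have hψ : (germHom u id U.1 hUu).comp (g.appLE W U.1 hUW).hom = ι.comp ρ := by
    refine RingHom.ext fun b => Germ.coe_eq.2 ?_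
    filter_upwards [hUu] with x hx
    have hxW : (Pts.map g x).pt ∈ W := by rw [Pts.pt_map]; exact hUW hx
    rw [evFun_pos _ _ _ hx, evFun_pos _ _ _ hxW, Pts.ev_map]
    exact ev_res x hUW hx (g.app W b)
  let S : ValuativeCommSq g :=
    { R := limRing u
      K := Ult u
      i₁ := Spec.map (CommRingCat.ofHom (germHom u id U.1 hUu)) ≫ U.2.fromSpec
      i₂ := Spec.map (CommRingCat.ofHom ρ) ≫ hW.fromSpec
      commSq := ⟨by
        have he : CommRingCat.ofHom ρ ≫ CommRingCat.ofHom ι =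
            g.appLE W U.1 hUW ≫ CommRingCat.ofHom (germHom u id U.1 hUu) := by
          ext b; exact (RingHom.congr_fun hψ b).symm
        rw [Category.assoc, ← IsAffineOpen.SpecMap_appLE_fromSpec g hW U.2 hUW, ← Category.assoc,
          ← Category.assoc, ← Spec.map_comp, ← Spec.map_comp, he]⟩ }
  have hex : ValuativeCriterion.Existence g :=
    ((UniversallyClosed.eq_valuativeCriterion ▸ ‹UniversallyClosed g› :) :
      (ValuativeCriterion.Existence ⊓ @QuasiCompact) g).1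
  obtain ⟨l, hl₁, hl₂⟩ := (hex S).exists_lift
  -- the affine piece at the centre
  let c : Spec (CommRingCat.of (limRing u)) := IsLocalRing.closedPoint (limRing u)
  obtain ⟨U₀, hU₀, hcU₀, -⟩ := exists_isAffineOpen_mem_and_subset (U := ⊤) (Opens.mem_top (l c))
  have hlU₀ : ∀ q, l q ∈ U₀ := fun q =>
    ((IsLocalRing.specializes_closedPoint q).map l.continuous).mem_open U₀.2 hcU₀
  obtain ⟨χ, hχ⟩ : ∃ χ : Γ(X, U₀) →+* limRing u,
      Spec.map (CommRingCat.ofHom χ) ≫ hU₀.fromSpec = l := by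
    let l' := IsOpenImmersion.lift hU₀.fromSpec l (by
      rintro _ ⟨q, rfl⟩; rw [hU₀.range_fromSpec]; exact hlU₀ q)
    obtain ⟨χ, hχ⟩ := Spec.map_surjective l'
    exact ⟨χ.hom, by rw [CommRingCat.ofHom_hom, hχ]; exact IsOpenImmersion.lift_fac _ _ _⟩
  have hst : Spec.map (CommRingCat.ofHom (stdPart u)) ≫ (l ≫ g) = y.1 := by
    rw [hl₂, eq_specMap_evHom y hW hyW, ← hρ]
    show Spec.map _ ≫ Spec.map _ ≫ _ = _
    rw [← Spec.map_comp_assoc]
    rfl
  let x : Pts X := ⟨Spec.map (CommRingCat.ofHom (stdPart u)) ≫ l, by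
    rw [Category.assoc, ← comp_over g, ← Category.assoc, ← Category.assoc, Category.assoc _ l g, hst]
    exact y.2⟩
  refine ⟨x, Subtype.ext ((Category.assoc _ _ _).trans hst), ?_⟩
  have hx1 : x.1 = Spec.map (CommRingCat.ofHom ((stdPart u).comp χ)) ≫ hU₀.fromSpec := by
    show Spec.map _ ≫ l = _
    rw [← hχ, ← Spec.map_comp_assoc]
    rfl
  obtain ⟨hxU₀, hxev⟩ := ev_eq_of_eq_specMap x hU₀ _ hx1
  let q₀ : Spec (CommRingCat.of (Ult u)) := IsLocalRing.closedPoint (Ult u)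
  have hi1 : Spec.map (CommRingCat.ofHom ι) ≫ l =
      Spec.map (CommRingCat.ofHom (germHom u id U.1 hUu)) ≫ U.2.fromSpec := hl₁
  set p₁ := U.2.fromSpec (Spec.map (CommRingCat.ofHom (germHom u id U.1 hUu)) q₀) with hp₁
  have hp₁U₀ : p₁ ∈ U₀ := by
    rw [hp₁, ← Scheme.Hom.comp_apply, ← hi1, Scheme.Hom.comp_apply]
    exact hlU₀ _
  obtain ⟨b, hbU₀, hp₁b⟩ := U.2.exists_basicOpen_le (V := U₀) ⟨p₁, hp₁U₀⟩
    (U.2.range_fromSpec.le ⟨_, rfl⟩)
  have hbu : ∀ᶠ x' in (u : Filter (Pts X)), x'.pt ∈ X.basicOpen b :=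
    eventually_of_mem u id U.2 hUu b q₀ hp₁b
  have hU₀u : ∀ᶠ x' in (u : Filter (Pts X)), x'.pt ∈ U₀ := hbu.mono fun x' h => hbU₀ h
  have hψ₀ : germHom u id U₀ hU₀u = ι.comp χ := by
    have h1 : Spec.map (CommRingCat.ofHom (germHom u id U₀ hU₀u)) ≫ hU₀.fromSpec =
        Spec.map (CommRingCat.ofHom (ι.comp χ)) ≫ hU₀.fromSpec := by
      have h2 : ∀ (O : X.Opens) (hO : IsAffineOpen O) (hO' : ∀ᶠ x' in (u : Filter (Pts X)), x'.pt ∈ O)
          (hle : X.basicOpen b ≤ O),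
          Spec.map (CommRingCat.ofHom (germHom u id O hO')) ≫ hO.fromSpec =
          Spec.map (CommRingCat.ofHom (germHom u id (X.basicOpen b) hbu)) ≫
            (U.2.basicOpen b).fromSpec := by
        intro O hO hO' hle
        rw [← hO.map_fromSpec (U.2.basicOpen b) (homOfLE hle).op, ← Spec.map_comp_assoc,
          ← germHom_res u id hle hO' hbu]
        rfl
      rw [h2 U₀ hU₀ hU₀u hbU₀, ← h2 U.1 U.2 hUu (X.basicOpen_le b), ← hi1, ← hχ,
        ← Spec.map_comp_assoc]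
      rfl
    rw [cancel_mono] at h1
    exact congrArg CommRingCat.Hom.hom (Spec.map_injective h1)
  show Tendsto id (u : Filter (Pts X)) (𝓝 x)
  refine tendsto_of_forall_ev hU₀ hxU₀ hU₀u fun a V hV hxV => ?_
  have h1 : (evFun id U₀ a : Ult u) = (χ a).1 := RingHom.congr_fun hψ₀ a
  have h2 := tendsto_stdVal u (χ a) h1
  rw [show stdVal u (χ a) = x.ev U₀ hxU₀ a from (hxev a).symm] at h2
  filter_upwards [hU₀u, h2 (hV.mem_nhds hxV)] with x' hx' hx'V
  refine ⟨hx', ?_⟩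
  rw [Set.mem_preimage, evFun_pos _ _ _ hx'] at hx'V
  exact hx'V

theorem isProperMap_of_universallyClosed (g : X ⟶ Y) [g.IsOver SC] [UniversallyClosed g] :
    IsProperMap (Pts.map g) :=
  isProperMap_iff_ultrafilter.2 ⟨Pts.continuous_map g, fun u y hu => exists_limit g u y hu⟩

end Groth.Agent.An92
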